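import Groth.Agent.LocFlat.Basic
import Mathlib.RingTheory.Flat.Localization
import Mathlib.RingTheory.Localization.BaseChange
import Mathlib.RingTheory.TensorProduct.Quotient
import Mathlib.RingTheory.RingHom.Flat

/-!
Flatness from the levels, and flatness of localisations of pushouts.
-/

namespace Groth.Agent.Adic.Rig

open TensorProduct

set_option linter.style.haveILetI false

universe u

/-- Flatness modulo an ideal, as a statement about quotient rings. -/
theorem flat_quotientMap {T S : Type u} [CommRing T] [CommRing S] [Algebra T S] [Module.Flat T S]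
    (K : Ideal T) :
    (Ideal.quotientMap (K.map (algebraMap T S)) (algebraMap T S) Ideal.le_comap_map).Flat := by
  let e : (S ⧸ K.map (algebraMap T S)) ≃ₐ[T] (T ⧸ K) ⊗[T] S :=
    ((Algebra.TensorProduct.quotIdealMapEquivTensorQuot S K).restrictScalars T).trans
      (Algebra.TensorProduct.comm T S (T ⧸ K))
  have h1 : (algebraMap (T ⧸ K) ((T ⧸ K) ⊗[T] S)).Flat :=
    RingHom.flat_algebraMap_iff.2 inferInstance
  have he : Ideal.quotientMap (K.map (algebraMap T S)) (algebraMap T S) Ideal.le_comap_map =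
      e.symm.toRingHom.comp (algebraMap (T ⧸ K) ((T ⧸ K) ⊗[T] S)) := by
    refine Ideal.Quotient.ringHom_ext (RingHom.ext fun x => ?_)
    simp only [RingHom.comp_apply, Ideal.quotientMap_mk]
    exact (e.symm.commutes x).symm
  rw [he]
  exact h1.comp (RingHom.Flat.of_bijective e.symm.bijective)

/-- Local criterion: flatness at all levels gives flatness. -/
theorem flat_of_forall_quot {R S : Type u} [CommRing R] [CommRing S] [IsNoetherianRing R]
    [IsNoetherianRing S] [Algebra R S] (I : Ideal R)
    (hI : I.map (algebraMap R S) ≤ (⊥ : Ideal S).jacobson)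
    (h : ∀ n : ℕ, (Ideal.quotientMap ((I ^ n).map (algebraMap R S)) (algebraMap R S)
      Ideal.le_comap_map).Flat) : Module.Flat R S := by
  refine LocFlat.flat_of_forall_pow (S := S) S I hI fun n A B _ _ _ _ a ha hB => ?_
  set J := I ^ n
  have hflat : Module.Flat (R ⧸ J) ((R ⧸ J) ⊗[R] S) := by
    let e : (S ⧸ J.map (algebraMap R S)) ≃ₐ[R] (R ⧸ J) ⊗[R] S :=
      ((Algebra.TensorProduct.quotIdealMapEquivTensorQuot S J).restrictScalars R).trans
        (Algebra.TensorProduct.comm R S (R ⧸ J))
    have he : algebraMap (R ⧸ J) ((R ⧸ J) ⊗[R] S) = e.toRingHom.comp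
        (Ideal.quotientMap (J.map (algebraMap R S)) (algebraMap R S) Ideal.le_comap_map) := by
      refine Ideal.Quotient.ringHom_ext (RingHom.ext fun x => ?_)
      simp only [RingHom.comp_apply, Ideal.quotientMap_mk]
      exact (e.commutes x).symm
    rw [← RingHom.flat_algebraMap_iff, he]
    exact (h n).comp (RingHom.Flat.of_bijective e.bijective)
  have hB' : Module.IsTorsionBySet R B (J : Set R) := by
    intro x r
    rw [← Submodule.mem_bot R, ← hB]
    exact Submodule.smul_mem_smul r.2 trivial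
  have hA' : Module.IsTorsionBySet R A (J : Set R) := fun x r => ha (by
    rw [map_smul, map_zero]; exact @hB' (a x) r)
  letI := hA'.module
  letI := hB'.module
  haveI : IsScalarTower R (R ⧸ J) A := hA'.isScalarTower
  haveI : IsScalarTower R (R ⧸ J) B := hB'.isScalarTower
  let a' : A →ₗ[R ⧸ J] B :=
    { toFun := a, map_add' := map_add a, map_smul' := fun r x => by
        obtain ⟨r, rfl⟩ := Ideal.Quotient.mk_surjective r
        exact map_smul a r x }
  let eA := AlgebraTensorModule.cancelBaseChange R (R ⧸ J) (R ⧸ J) A S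
  let eB := AlgebraTensorModule.cancelBaseChange R (R ⧸ J) (R ⧸ J) B S
  have hcomm : ∀ z, a.rTensor S (eA z) = eB (a'.rTensor ((R ⧸ J) ⊗[R] S) z) := by
    intro z
    induction z with
    | zero => simp
    | tmul q y =>
      induction y with
      | zero => simp
      | tmul r l =>
        simp only [eA, eB, AlgebraTensorModule.cancelBaseChange_tmul, LinearMap.rTensor_tmul]
        exact congrArg (· ⊗ₜ[R] l) (map_smul a' r q)
      | add y y' hy hy' => simp only [tmul_add, map_add, hy, hy']
    | add z z' hz hz' => simp only [map_add, hz, hz']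
  intro x y hxy
  obtain ⟨x, rfl⟩ := eA.surjective x
  obtain ⟨y, rfl⟩ := eA.surjective y
  rw [hcomm, hcomm] at hxy
  rw [Module.Flat.rTensor_preserves_injective_linearMap (M := (R ⧸ J) ⊗[R] S) a' ha
    (eB.injective hxy)]

/-- A flat algebra over a pushout which factors through a localisation of the second factor with
flat first leg is flat over the first factor. -/
theorem flat_of_pushout_localization {T₁ P T₂ M : Type u} [CommRing T₁] [CommRing P] [CommRing T₂]
    [CommRing M] [Algebra T₁ P] [Algebra T₁ T₂] [Algebra T₁ M] (q : Ideal T₂) [q.IsPrime]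
    (hq : ((algebraMap T₂ (Localization.AtPrime q)).comp (algebraMap T₁ T₂)).Flat)
    (f : P →ₐ[T₁] M) (g : T₂ →ₐ[T₁] M)
    (hflat : (Algebra.TensorProduct.lift f g fun _ _ => Commute.all _ _).toRingHom.Flat)
    (hu : ∀ s : q.primeCompl, IsUnit (g s)) : f.toRingHom.Flat := by
  let T₂' := Localization.AtPrime q
  have : Module.Flat T₁ T₂' := by
    rw [← RingHom.flat_algebraMap_iff, IsScalarTower.algebraMap_eq T₁ T₂ T₂']
    exact hq
  let g' : T₂' →ₐ[T₁] M := IsLocalization.liftAlgHom (M := q.primeCompl) (f := g) hu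
  let W := P ⊗[T₁] T₂
  let W' := P ⊗[T₁] T₂'
  let ι : W →ₐ[P] W' := Algebra.TensorProduct.map (AlgHom.id P P) (IsScalarTower.toAlgHom T₁ T₂ T₂')
  let Λ : W' →ₐ[T₁] M := Algebra.TensorProduct.lift f g' fun _ _ => Commute.all _ _
  let _ : Algebra W W' := ι.toRingHom.toAlgebra
  have : IsScalarTower P W W' := IsScalarTower.of_algebraMap_eq fun x => (ι.commutes x).symm
  have hloc : IsLocalization (q.primeCompl.map
      (Algebra.TensorProduct.includeRight (R := T₁) (A := P) (B := T₂))) W' := by
    refine IsLocalization.tensorProduct_tensorProduct_right T₁ P q.primeCompl T₂' ?_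
    refine RingHom.ext fun x => ?_
    exact Algebra.TensorProduct.map_tmul _ _ _ _
  have hΛι : (Algebra.TensorProduct.lift f g fun _ _ => Commute.all _ _).toRingHom =
      Λ.toRingHom.comp ι.toRingHom := by
    have : (Algebra.TensorProduct.lift f g fun _ _ => Commute.all _ _) =
        Λ.comp (ι.restrictScalars T₁) := by
      refine Algebra.TensorProduct.ext (AlgHom.ext fun x => ?_) (AlgHom.ext fun x => ?_)
      · show f x * g 1 = Λ (ι (x ⊗ₜ[T₁] (1 : T₂)))
        rw [show ι (x ⊗ₜ[T₁] (1 : T₂)) = x ⊗ₜ[T₁] algebraMap T₂ T₂' 1 from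
          Algebra.TensorProduct.map_tmul _ _ _ _]
        rw [show Λ (x ⊗ₜ[T₁] algebraMap T₂ T₂' 1) = f x * g' (algebraMap T₂ T₂' 1) from
          Algebra.TensorProduct.lift_tmul _ _ _ _ _, map_one, map_one, map_one]
      · show f 1 * g x = Λ (ι ((1 : P) ⊗ₜ[T₁] x))
        rw [show ι ((1 : P) ⊗ₜ[T₁] x) = (1 : P) ⊗ₜ[T₁] algebraMap T₂ T₂' x from
          Algebra.TensorProduct.map_tmul _ _ _ _]
        rw [show Λ ((1 : P) ⊗ₜ[T₁] algebraMap T₂ T₂' x) = f 1 * g' (algebraMap T₂ T₂' x) from
          Algebra.TensorProduct.lift_tmul _ _ _ _ _]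
        exact congrArg (f 1 * ·) (IsLocalization.lift_eq _ _).symm
    exact congrArg AlgHom.toRingHom this
  have h1 : Λ.toRingHom.Flat := by
    let _ : Algebra W' M := Λ.toRingHom.toAlgebra
    let _ : Algebra W M := (Algebra.TensorProduct.lift f g fun _ _ => Commute.all _ _).toRingHom.toAlgebra
    have : IsScalarTower W W' M :=
      IsScalarTower.of_algebraMap_eq fun x => RingHom.congr_fun hΛι x
    exact (Module.flat_iff_of_isLocalization W' (q.primeCompl.map
      (Algebra.TensorProduct.includeRight (R := T₁) (A := P) (B := T₂))) M).2 hflat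
  have h2 : (algebraMap P W').Flat := RingHom.flat_algebraMap_iff.2 inferInstance
  have : f.toRingHom = Λ.toRingHom.comp (algebraMap P W') := RingHom.ext fun x => by
    show f x = Λ (x ⊗ₜ[T₁] (1 : T₂'))
    rw [show Λ (x ⊗ₜ[T₁] (1 : T₂')) = f x * g' 1 from
      Algebra.TensorProduct.lift_tmul _ _ _ _ _, map_one, mul_one]
  rw [this]
  exact h2.comp h1

/-- A flat algebra over something isomorphic to a pushout, in which the prime complement becomes
invertible, is flat over the first factor. -/
theorem flat_of_pushout_iso {T₁ P T₂ N M : Type u} [CommRing T₁] [CommRing P] [CommRing T₂]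
    [CommRing N] [CommRing M] [Algebra T₁ P] [Algebra T₁ T₂] [Algebra T₁ N] (q : Ideal T₂) [q.IsPrime]
    (hq : ((algebraMap T₂ (Localization.AtPrime q)).comp (algebraMap T₁ T₂)).Flat)
    (Θ : T₂ ⊗[T₁] P →ₐ[T₁] N) (hΘ : Function.Bijective Θ) (χ : N →+* M) (hχ : χ.Flat)
    (hu : ∀ s : q.primeCompl, IsUnit (χ (Θ ((s : T₂) ⊗ₜ[T₁] (1 : P))))) :
    (χ.comp (Θ.toRingHom.comp
      (Algebra.TensorProduct.includeRight (R := T₁) (A := T₂) (B := P)).toRingHom)).Flat := by
  let _ : Algebra T₁ M := (χ.comp (algebraMap T₁ N)).toAlgebra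
  let χ' : N →ₐ[T₁] M := { χ with commutes' := fun _ => rfl }
  let F : P ⊗[T₁] T₂ →ₐ[T₁] M :=
    χ'.comp (Θ.comp (Algebra.TensorProduct.comm T₁ P T₂).toAlgHom)
  let f : P →ₐ[T₁] M := χ'.comp (Θ.comp Algebra.TensorProduct.includeRight)
  let g : T₂ →ₐ[T₁] M :=
    χ'.comp (Θ.comp ((Algebra.TensorProduct.includeLeft : T₂ →ₐ[T₁] T₂ ⊗[T₁] P)))
  have hF : Algebra.TensorProduct.lift f g (fun _ _ => Commute.all _ _) = F := by
    refine Algebra.TensorProduct.ext (AlgHom.ext fun x => ?_) (AlgHom.ext fun x => ?_)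
    · simp [f, g, F]
    · simp [f, g, F]
  exact flat_of_pushout_localization q hq f g (by
    rw [hF]
    have e : F.toRingHom = (χ.comp Θ.toRingHom).comp
        (Algebra.TensorProduct.comm T₁ P T₂).toRingHom := RingHom.ext fun _ => rfl
    rw [e]
    exact RingHom.Flat.comp (RingHom.Flat.of_bijective (Algebra.TensorProduct.comm T₁ P T₂).bijective)
      (RingHom.Flat.comp (RingHom.Flat.of_bijective hΘ) hχ)) hu

end Groth.Agent.Adic.Rig
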