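import Groth.Agent.Adic.Basic
import Mathlib.RingTheory.Ideal.KrullsHeightTheorem
import Mathlib.RingTheory.Ideal.GoingUp
import Mathlib.RingTheory.Artinian.Ring
import Mathlib.RingTheory.Henselian
import Mathlib.RingTheory.Jacobson.Ring
import Mathlib.RingTheory.FiniteType
import Mathlib.RingTheory.Filtration
import Mathlib.RingTheory.Spectrum.Prime.Basic

/-!
Rig-closed primes of complete Noetherian rings: the quotient is a one-dimensional local domain.
-/

namespace Groth.Agent.Adic.Rig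

open Polynomial

universe u v

/-- `q` is maximal among the primes not containing `J`. -/
def RigClosed {R : Type*} [CommRing R] (J q : Ideal R) : Prop :=
  ¬ J ≤ q ∧ ∀ y : Ideal R, y.IsPrime → q ≤ y → ¬ J ≤ y → y = q

theorem rigClosed_of_spec {R : Type*} [CommRing R] {J : Ideal R} {q : PrimeSpectrum R}
    (h : ¬ J ≤ q.asIdeal ∧ ∀ y : PrimeSpectrum R, q ≤ y → ¬ J ≤ y.asIdeal → y = q) :
    RigClosed J q.asIdeal :=
  ⟨h.1, fun y hy hle hJ => congrArg PrimeSpectrum.asIdeal (h.2 ⟨y, hy⟩ hle hJ)⟩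

theorem RigClosed.toSpec {R : Type*} [CommRing R] {J : Ideal R} {q : PrimeSpectrum R}
    (h : RigClosed J q.asIdeal) :
    ¬ J ≤ q.asIdeal ∧ ∀ y : PrimeSpectrum R, q ≤ y → ¬ J ≤ y.asIdeal → y = q :=
  ⟨h.1, fun y hle hJ => PrimeSpectrum.ext (h.2 y.asIdeal y.2 hle hJ)⟩

section Domain

variable {D : Type u} [CommRing D] [IsDomain D] [IsNoetherianRing D]

theorem height_le_one_minimal {f : D} {P : Ideal D} (hP : P ∈ (Ideal.span {f}).minimalPrimes) :
    P.height ≤ 1 := Ideal.height_le_one_of_isPrincipal_of_mem_minimalPrimes _ P hP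

/-- If all nonzero primes contain `f ≠ 0`, they are minimal over `(f)`. -/
theorem mem_minimalPrimes_of_forall {f : D} (hf : f ≠ 0)
    (h : ∀ P : Ideal D, P.IsPrime → P ≠ ⊥ → f ∈ P) {P : Ideal D} [hP : P.IsPrime] (hP0 : P ≠ ⊥) :
    P ∈ (Ideal.span {f}).minimalPrimes := by
  classical
  have hfin : (Ideal.span {f}).minimalPrimes.Finite := Ideal.finite_minimalPrimes_of_isNoetherianRing D _
  have hne : ∀ P' ∈ (Ideal.span {f}).minimalPrimes, P' ≠ ⊥ := fun P' hP' h0 => hf (by
    have := hP'.1.2 (Ideal.mem_span_singleton_self f)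
    rwa [h0, Ideal.mem_bot] at this)
  -- every height one prime is minimal over `f`
  have key : ∀ Q : Ideal D, Q.IsPrime → Q ≠ ⊥ → Q.height ≤ 1 →
      Q ∈ (Ideal.span {f}).minimalPrimes := by
    intro Q hQ hQ0 hQ1
    obtain ⟨P', hP', hle⟩ := Ideal.exists_minimalPrimes_le
      ((Ideal.span_singleton_le_iff_mem _).2 (h Q hQ hQ0))
    rcases eq_or_lt_of_le hle with e | hlt
    · exact e ▸ hP'
    · have := hP'.1.1
      have h1 : P'.height < Q.height := Ideal.height_strict_mono_of_isPrime hlt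
      have h0 : P'.height = 0 := Order.lt_one_iff.1 (h1.trans_le hQ1)
      exact absurd (Ideal.height_eq_zero_iff_eq_bot.1 h0) (hne P' hP')
  -- prime avoidance
  have hsub : (P : Set D) ⊆ ⋃ i ∈ (↑hfin.toFinset : Set (Ideal D)), (i : Set D) := by
    intro g hg
    by_cases hg0 : g = 0
    · subst hg0
      obtain ⟨P', hP', -⟩ := Ideal.exists_minimalPrimes_le
        ((Ideal.span_singleton_le_iff_mem _).2 (h P hP hP0))
      exact Set.mem_biUnion (hfin.mem_toFinset.2 hP') (zero_mem P')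
    obtain ⟨Q, hQ, hle⟩ := Ideal.exists_minimalPrimes_le
      ((Ideal.span_singleton_le_iff_mem _).2 hg)
    have hgQ : g ∈ Q := hQ.1.2 (Ideal.mem_span_singleton_self g)
    have hQ0 : Q ≠ ⊥ := fun e => hg0 (by rwa [e, Ideal.mem_bot] at hgQ)
    exact Set.mem_biUnion (hfin.mem_toFinset.2 (key Q hQ.1.1 hQ0 (height_le_one_minimal hQ))) hgQ
  obtain ⟨P', hP', hle⟩ := (Ideal.subset_union_prime ⊥ ⊥ (f := id)
    (fun i hi _ _ => (hfin.mem_toFinset.1 hi).1.1)).1 hsub
  have hP'' := hfin.mem_toFinset.1 hP'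
  refine key P hP hP0 ((Ideal.height_mono hle).trans (height_le_one_minimal hP''))

theorem isMaximal_of_forall {f : D} (hf : f ≠ 0)
    (h : ∀ P : Ideal D, P.IsPrime → P ≠ ⊥ → f ∈ P) {P : Ideal D} [P.IsPrime] (hP0 : P ≠ ⊥) :
    P.IsMaximal := by
  obtain ⟨M, hM, hle⟩ := Ideal.exists_le_maximal P (Ideal.IsPrime.ne_top ‹_›)
  have hM0 : M ≠ ⊥ := fun e => hP0 (le_bot_iff.1 (e ▸ hle))
  have h2 := mem_minimalPrimes_of_forall hf h (P := M) hM0
  have : M ≤ P := h2.2 ⟨inferInstance, (Ideal.span_singleton_le_iff_mem _).2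
    (h P inferInstance hP0)⟩ hle
  rwa [le_antisymm hle this]

/-- A complete domain whose nonzero primes contain the ideal of definition is local. -/
theorem prime_unique (J : Ideal D) [IsAdicComplete J D] (hJ : J ≠ ⊥)
    (h : ∀ P : Ideal D, P.IsPrime → P ≠ ⊥ → J ≤ P) {M N : Ideal D} [hMp : M.IsPrime]
    [hNp : N.IsPrime] (hM0 : M ≠ ⊥) (hN0 : N ≠ ⊥) : M = N := by
  classical
  obtain ⟨f, hfJ, hf⟩ := Submodule.exists_mem_ne_zero_of_ne_bot hJ
  have hmax : ∀ P : Ideal D, P.IsPrime → P ≠ ⊥ → P.IsMaximal := fun P _ hP0 =>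
    isMaximal_of_forall hf (fun Q hQ hQ0 => h Q hQ hQ0 hfJ) hP0
  by_contra hne
  have hMm := hmax M hMp hM0
  have hNm := hmax N hNp hN0
  obtain ⟨x, hxM, hxN⟩ := Set.not_subset.1 (fun hsub => hne (hMm.eq_of_le hNm.ne_top hsub))
  have : IsNoetherianRing (D ⧸ J) := inferInstance
  have : Ring.KrullDimLE 0 (D ⧸ J) := Ring.KrullDimLE.mk₀ fun P hP => by
    have hle : J ≤ P.comap (Ideal.Quotient.mk J) := fun z hz => by
      rw [Ideal.mem_comap, Ideal.Quotient.eq_zero_iff_mem.2 hz]; exact zero_mem P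
    have := hmax _ (Ideal.comap_isPrime _ P) (fun e => hJ (le_bot_iff.1 (e ▸ hle)))
    have h2 := Ideal.map_eq_top_or_isMaximal_of_surjective (Ideal.Quotient.mk J) Ideal.Quotient.mk_surjective this
    rw [Ideal.map_comap_of_surjective _ Ideal.Quotient.mk_surjective] at h2
    exact (or_iff_right hP.ne_top).1 h2
  have : IsArtinianRing (D ⧸ J) := IsNoetherianRing.isArtinianRing_of_krullDimLE_zero
  set q := Ideal.Quotient.mk J with hq
  obtain ⟨n, y, hy⟩ := IsArtinian.exists_pow_succ_smul_dvd (M := D ⧸ J) (q x) (1 : D ⧸ J)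
  rw [smul_eq_mul, smul_eq_mul, mul_one, show n.succ = n + 1 from rfl] at hy
  obtain ⟨y, rfl⟩ := Ideal.Quotient.mk_surjective y
  have hstep : ∀ j, q x ^ (n + j) * q y ^ j = q x ^ n := by
    intro j
    induction j with
    | zero => simp
    | succ j ih =>
      calc q x ^ (n + (j + 1)) * q y ^ (j + 1)
          = (q x ^ (n + 1) * q y) * (q x ^ j * q y ^ j) := by ring
        _ = q x ^ n * (q x ^ j * q y ^ j) := by rw [hy]
        _ = q x ^ n := by rw [← mul_assoc, ← pow_add, ih]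
  set e := x ^ (n + 1) * y ^ (n + 1) with he
  have hsq : e * e - e ∈ J := by
    rw [← Ideal.Quotient.eq_zero_iff_mem, ← hq, map_sub, sub_eq_zero, he, map_mul, map_mul, map_pow,
      map_pow]
    have h1 : q x ^ (2 * (n + 1)) * q y ^ (n + 1) = q x ^ (n + 1) := by
      calc q x ^ (2 * (n + 1)) * q y ^ (n + 1)
          = q x * (q x ^ (n + (n + 1)) * q y ^ (n + 1)) := by ring
        _ = q x ^ (n + 1) := by rw [hstep, pow_succ']
    calc q x ^ (n + 1) * q y ^ (n + 1) * (q x ^ (n + 1) * q y ^ (n + 1))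
        = (q x ^ (2 * (n + 1)) * q y ^ (n + 1)) * q y ^ (n + 1) := by ring
      _ = _ := by rw [h1]
  have hnN : e ∉ N := by
    intro hmem
    have h2 : x ^ (n + (n + 1)) * y ^ (n + 1) - x ^ n ∈ N := h N hNp hN0 (by
      rw [← Ideal.Quotient.eq_zero_iff_mem, ← hq, map_sub, map_mul, map_pow, map_pow, map_pow]
      exact sub_eq_zero.2 (hstep (n + 1)))
    have h3 : x ^ (n + (n + 1)) * y ^ (n + 1) ∈ N := by
      rw [pow_add, mul_assoc]; exact Ideal.mul_mem_left _ _ hmem
    have := sub_mem h3 h2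
    rw [sub_sub_cancel] at this
    exact hxN (hNp.mem_of_pow_mem n this)
  have hnM : e ∈ M := Ideal.mul_mem_right _ _ (Ideal.pow_mem_of_mem M hxM _ n.succ_pos)
  have hu : IsUnit (q (2 * e - 1)) := by
    refine IsUnit.of_mul_eq_one (q (2 * e - 1)) ?_
    rw [← map_mul, ← map_one q, hq, Ideal.Quotient.eq,
      show (2 * e - 1) * (2 * e - 1) - 1 = 4 * (e * e - e) by ring]
    exact Ideal.mul_mem_left _ _ hsq
  obtain ⟨a, ha, hae⟩ := HenselianRing.is_henselian (I := J) (X ^ 2 - X)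
    (monic_X_pow_sub (by rw [degree_X]; norm_num)) e
    (by simpa [sq] using hsq) (by
      rw [show (derivative (X ^ 2 - X : D[X])).eval e = 2 * e - 1 by
        simp [one_add_one_eq_two]]
      exact hu)
  have ha' : a * (a - 1) = 0 := by
    simp only [IsRoot, eval_sub, eval_pow, eval_X] at ha
    linear_combination ha
  rcases mul_eq_zero.1 ha' with h0 | h1
  · rw [h0, zero_sub, neg_mem_iff] at hae
    exact hnN (h N hNp hN0 hae)
  · rw [sub_eq_zero] at h1
    rw [h1] at hae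
    refine hMm.ne_top ((Ideal.eq_top_iff_one M).2 ?_)
    have := add_mem (h M hMp hM0 hae) hnM
    rwa [sub_add_cancel] at this

end Domain

section

variable {A : Type u} [CommRing A] [IsNoetherianRing A] {I : Ideal A} [IsAdicComplete I A]
  {q : Ideal A} [q.IsPrime]

omit [q.IsPrime] in
theorem isAdicComplete_quotient (q : Ideal A) :
    IsAdicComplete (I.map (Ideal.Quotient.mk q)) (A ⧸ q) := by
  rw [← Ideal.Quotient.algebraMap_eq]
  exact (IsAdicComplete.map_algebraMap_iff _ _).2 (isAdicComplete_of_finite I)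

theorem le_of_isMaximal {M : Ideal A} [hM : M.IsMaximal] : I ≤ M := fun _ hx =>
  (sInf_le ⟨bot_le, hM⟩ : (⊥ : Ideal A).jacobson ≤ M) (IsAdicComplete.le_jacobson_bot I hx)

theorem RigClosed.unique (h : RigClosed I q) {P Q : Ideal A} [hP : P.IsPrime] [hQ : Q.IsPrime]
    (hqP : q < P) (hqQ : q < Q) : P = Q := by
  have := isAdicComplete_quotient (I := I) q
  have hmap : ∀ R : Ideal A, q < R → R.IsPrime →
      (R.map (Ideal.Quotient.mk q)).IsPrime ∧ R.map (Ideal.Quotient.mk q) ≠ ⊥ ∧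
        (R.map (Ideal.Quotient.mk q)).comap (Ideal.Quotient.mk q) = R := fun R hR hRp => by
    have hc : (R.map (Ideal.Quotient.mk q)).comap (Ideal.Quotient.mk q) = R := by
      rw [Ideal.comap_map_quotientMk, sup_eq_right.2 hR.le]
    refine ⟨Ideal.map_isPrime_of_surjective Ideal.Quotient.mk_surjective (by simp [hR.le]),
      fun e => hR.ne' ?_, hc⟩
    rw [← hc, e, ← RingHom.ker_eq_comap_bot, Ideal.mk_ker]
  obtain ⟨hP1, hP2, hP3⟩ := hmap P hqP hP
  obtain ⟨hQ1, hQ2, hQ3⟩ := hmap Q hqQ hQ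
  have hne : I.map (Ideal.Quotient.mk q) ≠ ⊥ := fun e => h.1 fun x hx =>
    Ideal.Quotient.eq_zero_iff_mem.1 (Ideal.mem_bot.1 (e ▸ Ideal.mem_map_of_mem _ hx))
  rw [← hP3, ← hQ3, prime_unique (I.map (Ideal.Quotient.mk q)) hne ?_ hP2 hQ2]
  · intro R hR hR0
    have hlt : q ≤ R.comap (Ideal.Quotient.mk q) := fun x hx => by
      rw [Ideal.mem_comap, Ideal.Quotient.eq_zero_iff_mem.2 hx]; exact zero_mem R
    rw [Ideal.map_le_iff_le_comap]
    by_contra hI
    refine hR0 ?_
    rw [← Ideal.map_comap_of_surjective (Ideal.Quotient.mk q) Ideal.Quotient.mk_surjective R,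
      h.2 _ (Ideal.comap_isPrime _ R) hlt hI, Ideal.map_quotient_self]

theorem RigClosed.exists_maximal (h : RigClosed I q) : ∃ M : Ideal A, M.IsMaximal ∧ q < M := by
  obtain ⟨M, hM, hle⟩ := Ideal.exists_le_maximal q (Ideal.IsPrime.ne_top ‹_›)
  exact ⟨M, hM, lt_of_le_of_ne hle fun e => h.1 (e ▸ le_of_isMaximal)⟩

theorem RigClosed.isMaximal (h : RigClosed I q) {P : Ideal A} [P.IsPrime] (hP : q < P) :
    P.IsMaximal := by
  obtain ⟨M, hM, hqM⟩ := h.exists_maximal
  have := hM.isPrime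
  rwa [h.unique hP hqM]

theorem RigClosed.eq_radical (h : RigClosed I q) {P : Ideal A} [hP : P.IsPrime] (hqP : q < P) :
    P = (I ⊔ q).radical := by
  have := h.isMaximal hqP
  refine le_antisymm ?_ ((Ideal.IsPrime.radical_le_iff hP).2 (sup_le le_of_isMaximal hqP.le))
  rw [Ideal.radical_eq_sInf]
  refine le_sInf fun Q hQ => ?_
  have := hQ.2
  rw [h.unique hqP (lt_of_le_of_ne (le_sup_right.trans hQ.1) fun e => h.1
    (e ▸ (le_sup_left.trans hQ.1)))]

theorem RigClosed.isMaximal_radical (h : RigClosed I q) : (I ⊔ q).radical.IsMaximal := by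
  obtain ⟨M, hM, hqM⟩ := h.exists_maximal
  have := hM.isPrime
  rwa [← h.eq_radical hqM]

theorem RigClosed.lt_radical (h : RigClosed I q) : q < (I ⊔ q).radical :=
  lt_of_le_of_ne (le_sup_right.trans Ideal.le_radical) fun e =>
    h.1 (e ▸ le_sup_left.trans Ideal.le_radical)

theorem RigClosed.krullDimLE (h : RigClosed I q) : Ring.KrullDimLE 1 (A ⧸ q) := by
  refine Ring.krullDimLE_one_iff_of_noZeroDivisors.2 fun R hR0 hR => ?_
  have hc : q ≤ R.comap (Ideal.Quotient.mk q) := fun x hx => by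
    rw [Ideal.mem_comap, Ideal.Quotient.eq_zero_iff_mem.2 hx]; exact zero_mem R
  have := Ideal.comap_isPrime (Ideal.Quotient.mk q) R
  have := h.isMaximal (lt_of_le_of_ne hc fun e => hR0 (by
    rw [← Ideal.map_comap_of_surjective (Ideal.Quotient.mk q) Ideal.Quotient.mk_surjective R, ← e,
      Ideal.map_quotient_self]))
  have h2 := Ideal.map_eq_top_or_isMaximal_of_surjective (Ideal.Quotient.mk q) Ideal.Quotient.mk_surjective this
  rw [Ideal.map_comap_of_surjective _ Ideal.Quotient.mk_surjective] at h2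
  exact (or_iff_right hR.ne_top).1 h2

theorem rigClosed_of_krullDimLE [Ring.KrullDimLE 1 (A ⧸ q)] (hI : ¬ I ≤ q) : RigClosed I q := by
  refine ⟨hI, fun y hy hle hy' => ?_⟩
  by_contra hne
  have hc : (y.map (Ideal.Quotient.mk q)).comap (Ideal.Quotient.mk q) = y := by
    rw [Ideal.comap_map_quotientMk, sup_eq_right.2 hle]
  have := Ideal.map_isPrime_of_surjective (f := Ideal.Quotient.mk q) Ideal.Quotient.mk_surjective
    (I := y) (by simp [hle])
  have hmax := (Ring.krullDimLE_one_iff_of_noZeroDivisors.1 ‹_›)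
    (y.map (Ideal.Quotient.mk q)) (fun e => hne (by rw [← hc, e, ← RingHom.ker_eq_comap_bot,
      Ideal.mk_ker])) inferInstance
  have : y.IsMaximal := hc ▸ Ideal.comap_isMaximal_of_surjective _ Ideal.Quotient.mk_surjective
  exact hy' le_of_isMaximal

end

end Groth.Agent.Adic.Rig
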