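import Groth.Agent.Adic.Rig.Core
import Groth.Agent.Adic.CV.Trunc
import Groth.Agent.Adic.ComplLift
import Groth.Agent.RegLoc.AdicNoeth
import Mathlib.RingTheory.Localization.Away.Basic
import Mathlib.RingTheory.IntegralClosure.IsIntegralClosure.Basic

/-!
Finiteness over complete rings, completed localisations at elements invertible modulo a prime,
and images of rig-closed primes.
-/

namespace Groth.Agent.Adic.Rig

open Groth.Agent.Adic.CV

universe u v

section Finite

variable {A : Type u} [CommRing A] {I : Ideal A}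

theorem finite_of_le_nilradical {S : Type v} [CommRing S] [Algebra A S] [Algebra.FiniteType A S]
    {N : Ideal S} (hN : N ≤ nilradical S) [Module.Finite A (S ⧸ N)] : Module.Finite A S := by
  have : Algebra.IsIntegral A S := ⟨fun x => by
    obtain ⟨P, hP, hPx⟩ := (Algebra.IsIntegral.isIntegral (R := A) (Ideal.Quotient.mk N x : S ⧸ N))
    have h0 : Polynomial.aeval x P ∈ N := by
      rw [← Ideal.Quotient.eq_zero_iff_mem, ← Ideal.Quotient.mkₐ_eq_mk A,
        ← Polynomial.aeval_algHom_apply]
      exact hPx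
    obtain ⟨m, hm⟩ := hN h0
    exact ⟨P ^ m, hP.pow m, by rw [← Polynomial.aeval_def, map_pow, hm]⟩⟩
  exact Algebra.IsIntegral.finite

/-- A separated algebra over a complete ring is finite if it is so modulo the radical of `I`. -/
theorem finite_of_radical {S : Type v} [CommRing S] [Algebra A S] [IsPrecomplete I A]
    [IsHausdorff I S] (hft : Algebra.FiniteType A (S ⧸ I.map (algebraMap A S))) {N : Ideal S}
    (hN : N ≤ (I.map (algebraMap A S)).radical) [Module.Finite A (S ⧸ N)] : Module.Finite A S := by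
  set K := I.map (algebraMap A S) with hK
  let q := Ideal.Quotient.mk K
  let φ : (S ⧸ N) →ₐ[A] (S ⧸ K) ⧸ N.map q :=
    Ideal.Quotient.liftₐ N ((Ideal.Quotient.mkₐ A _).comp (Ideal.Quotient.mkₐ A K)) fun x hx =>
      Ideal.Quotient.eq_zero_iff_mem.2 (Ideal.mem_map_of_mem q hx)
  have hφ : Function.Surjective φ := Ideal.Quotient.lift_surjective_of_surjective _ _
    (Ideal.Quotient.mk_surjective.comp Ideal.Quotient.mk_surjective)
  have : Module.Finite A ((S ⧸ K) ⧸ N.map q) := Module.Finite.of_surjective φ.toLinearMap hφ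
  have : Module.Finite A (S ⧸ K) := finite_of_le_nilradical (N := N.map q) (by
    rw [Ideal.map_le_iff_le_comap]
    intro x hx
    obtain ⟨m, hm⟩ := hN hx
    exact ⟨m, by rw [← map_pow]; exact Ideal.Quotient.eq_zero_iff_mem.2 hm⟩)
  refine finite_of_finite_quot I ?_
  exact Module.Finite.equiv ((Submodule.quotEquivOfEq _ _ (Ideal.smul_top_eq_map I)).trans
    (Submodule.Quotient.restrictScalarsEquiv A K)).symm

variable {B : Type v} [CommRing B] [Algebra A B] [IsNoetherianRing B]
  [IsAdicComplete (I.map (algebraMap A B)) B]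

theorem isHausdorff_quot (q : Ideal B) : IsHausdorff I (B ⧸ q) := by
  have := (Adic.isAdicComplete_of_finite (M := B ⧸ q) (I.map (algebraMap A B))).toIsHausdorff
  exact (IsHausdorff.map_algebraMap_iff (R := A) (S := B)).1 this

theorem finite_quotient [IsPrecomplete I A]
    (hft : Algebra.FiniteType A (B ⧸ I.map (algebraMap A B))) (q N : Ideal B)
    (hN : N ≤ (I.map (algebraMap A B) ⊔ q).radical) [Module.Finite A (B ⧸ N)] :
    Module.Finite A (B ⧸ q) := by
  have := isHausdorff_quot (I := I) q
  let π := Ideal.Quotient.mkₐ A q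
  have hπ : Function.Surjective π := Ideal.Quotient.mk_surjective
  have hKI : (I.map (algebraMap A B)).map π.toRingHom = I.map (algebraMap A (B ⧸ q)) := by
    rw [Ideal.map_map]; exact congrArg (fun f => Ideal.map f I) π.comp_algebraMap
  have hft' : Algebra.FiniteType A ((B ⧸ q) ⧸ I.map (algebraMap A (B ⧸ q))) := by
    refine hft.of_surjective (Ideal.quotientMapₐ _ π (by
      rw [← Ideal.map_le_iff_le_comap]; exact hKI.le)) ?_
    intro y
    obtain ⟨y, rfl⟩ := Ideal.Quotient.mk_surjective y
    obtain ⟨x, rfl⟩ := hπ y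
    exact ⟨Ideal.Quotient.mk _ x, rfl⟩
  let φ : (B ⧸ N) →ₐ[A] (B ⧸ q) ⧸ N.map π.toRingHom :=
    Ideal.Quotient.liftₐ N ((Ideal.Quotient.mkₐ A _).comp π) fun x hx =>
      Ideal.Quotient.eq_zero_iff_mem.2 (Ideal.mem_map_of_mem π.toRingHom hx)
  have hφ : Function.Surjective φ := Ideal.Quotient.lift_surjective_of_surjective _ _
    (Ideal.Quotient.mk_surjective.comp hπ)
  have : Module.Finite A ((B ⧸ q) ⧸ N.map π.toRingHom) :=
    Module.Finite.of_surjective φ.toLinearMap hφ
  refine finite_of_radical hft' (N := N.map π.toRingHom) ?_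
  rw [Ideal.map_le_iff_le_comap]
  intro x hx
  obtain ⟨m, hm⟩ := hN hx
  refine ⟨m, ?_⟩
  rw [← map_pow, ← hKI]
  obtain ⟨a, ha, b, hb, hab⟩ := Submodule.mem_sup.1 hm
  rw [← hab, map_add, show π.toRingHom b = 0 from Ideal.Quotient.eq_zero_iff_mem.2 hb, add_zero]
  exact Ideal.mem_map_of_mem _ ha

end Finite

section

variable {A : Type u} [CommRing A] {I : Ideal A} {B : Type v} [CommRing B] [Algebra A B]

theorem le_comap_iff {q : Ideal B} :
    I ≤ q.comap (algebraMap A B) ↔ I.map (algebraMap A B) ≤ q := Ideal.map_le_iff_le_comap.symm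

/-- If `B/q` is integral over `A`, the image of a rig-closed prime is rig-closed. -/
theorem RigClosed.comap_of_finite {q : Ideal B} [q.IsPrime]
    (h : RigClosed (I.map (algebraMap A B)) q) [Module.Finite A (B ⧸ q)] :
    RigClosed I (q.comap (algebraMap A B)) := by
  refine ⟨fun hle => h.1 (le_comap_iff.1 hle), fun y hy hle hI => ?_⟩
  obtain ⟨Q, -, hQ, hQy⟩ := Ideal.exists_ideal_over_prime_of_isIntegral y (⊥ : Ideal (B ⧸ q)) (by
    intro a ha
    refine hle ?_
    rw [Ideal.mem_comap, Ideal.mem_bot, IsScalarTower.algebraMap_apply A B (B ⧸ q),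
      Ideal.Quotient.algebraMap_eq, Ideal.Quotient.eq_zero_iff_mem] at ha
    exact ha)
  have hQy' : (Q.comap (Ideal.Quotient.mk q)).comap (algebraMap A B) = y := by
    rw [Ideal.comap_comap, ← hQy]; rfl
  have := h.2 (Q.comap (Ideal.Quotient.mk q)) (Ideal.comap_isPrime _ Q) (fun x hx => by
    rw [Ideal.mem_comap, Ideal.Quotient.eq_zero_iff_mem.2 hx]; exact zero_mem Q)
    (fun hJ => hI (hQy' ▸ le_comap_iff.2 hJ))
  rw [← hQy', this]

/-- A prime over a closed point of a rig-closed prime lies over a maximal ideal. -/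
theorem RigClosed.comap_isMaximal [IsNoetherianRing A] [IsAdicComplete I A] {p : Ideal A}
    [p.IsPrime] (hp : RigClosed I p) {Q : Ideal B} [Q.IsPrime] (hIQ : I.map (algebraMap A B) ≤ Q)
    (hpQ : p ≤ Q.comap (algebraMap A B)) : (Q.comap (algebraMap A B)).IsMaximal :=
  hp.isMaximal (lt_of_le_of_ne hpQ fun e => hp.1 (e ▸ le_comap_iff.2 hIQ))

/-- Above a rig-closed prime with rig-closed image, the quotient is finite. -/
theorem RigClosed.finite_of_comap [IsNoetherianRing A] [IsAdicComplete I A] [IsNoetherianRing B]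
    [IsAdicComplete (I.map (algebraMap A B)) B]
    (hft : Algebra.FiniteType A (B ⧸ I.map (algebraMap A B))) {q : Ideal B} [q.IsPrime]
    (hq : RigClosed (I.map (algebraMap A B)) q) (hp : RigClosed I (q.comap (algebraMap A B))) :
    Module.Finite A (B ⧸ q) := by
  set Q := (I.map (algebraMap A B) ⊔ q).radical with hQdef
  have hQ : Q.IsMaximal := hq.isMaximal_radical
  have hmax := hp.comap_isMaximal (Q := Q) (le_sup_left.trans Ideal.le_radical)
    (Ideal.comap_mono hq.lt_radical.le)
  let k := B ⧸ Q
  let _ : Field k := Ideal.Quotient.field Q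
  let k₀ := A ⧸ Q.comap (algebraMap A B)
  let _ : Field k₀ := Ideal.Quotient.field _
  let _ : Algebra k₀ k := (Ideal.quotientMap Q (algebraMap A B) le_rfl).toAlgebra
  have : IsScalarTower A k₀ k := IsScalarTower.of_algebraMap_eq fun _ => rfl
  have hIQ : I.map (algebraMap A B) ≤ Q := le_sup_left.trans Ideal.le_radical
  have : Algebra.FiniteType A k := hft.of_surjective
    (Ideal.Quotient.factorₐ A hIQ) (Ideal.Quotient.factor_surjective hIQ)
  have : Algebra.FiniteType k₀ k := Algebra.FiniteType.of_restrictScalars_finiteType A k₀ k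
  have : Module.Finite k₀ k := finite_of_finite_type_of_isJacobsonRing k₀ k
  have : Module.Finite A k₀ := inferInstanceAs (Module.Finite A (A ⧸ Q.comap (algebraMap A B)))
  have : Module.Finite A (B ⧸ Q) := Module.Finite.trans k₀ k
  exact finite_quotient hft q Q le_rfl

end

section Closed

variable {B : Type v} [CommRing B] [IsNoetherianRing B] {J : Ideal B}

theorem mem_of_forall_mem_sup_pow (hJ : J ≤ (⊥ : Ideal B).jacobson) (N : Ideal B) {z : B}
    (h : ∀ n : ℕ, z ∈ N ⊔ J ^ n) : z ∈ N := by
  have := IsHausdorff.of_le_jacobson (M := B ⧸ N) J hJ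
  rw [← Ideal.Quotient.eq_zero_iff_mem]
  refine IsHausdorff.haus this _ fun n => ?_
  rw [SModEq.zero]
  obtain ⟨a, ha, b, hb, rfl⟩ := Submodule.mem_sup.1 (h n)
  rw [map_add, Ideal.Quotient.eq_zero_iff_mem.2 ha, zero_add]
  have := Submodule.smul_mem_smul hb (Submodule.mem_top : (Ideal.Quotient.mk N 1) ∈ ⊤)
  rwa [show b • Ideal.Quotient.mk N 1 = Ideal.Quotient.mk N b by
    rw [← Ideal.Quotient.algebraMap_eq, Algebra.smul_def, map_one, mul_one]] at this

end Closed

section CompletedLocalization

variable {A : Type u} [CommRing A] [IsNoetherianRing A] {I : Ideal A} [IsAdicComplete I A]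

theorem isNoetherianRing_compl {C : Type v} [CommRing C] [Algebra A C] [IsNoetherianRing C] :
    IsNoetherianRing (Compl I C) :=
  RegLoc.AdicNoeth.isNoetherianRing_adicCompletion _ (IsNoetherian.noetherian _)

/-- For `f` invertible modulo `p`, the completed localisation maps onto `A/p` with kernel
generated by `p`. -/
theorem exists_hom_away (p : Ideal A) (f : A) (hf : IsUnit (Ideal.Quotient.mk p f)) :
    ∃ π : Compl I (Localization.Away f) →ₐ[A] A ⧸ p,
      RingHom.ker π.toRingHom = p.map (algebraMap A (Compl I (Localization.Away f))) := by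
  have hc : IsAdicComplete (I.map (algebraMap A (A ⧸ p))) (A ⧸ p) :=
    (IsAdicComplete.map_algebraMap_iff _ _).2 (Adic.isAdicComplete_of_finite I)
  let h₀ : Localization.Away f →ₐ[A] A ⧸ p :=
    { IsLocalization.Away.lift f (g := algebraMap A (A ⧸ p)) hf with
      commutes' := fun a => IsLocalization.Away.lift_eq f hf a }
  refine ⟨complLift I h₀, le_antisymm (fun z hz => ?_) ?_⟩
  swap
  · rw [Ideal.map_le_iff_le_comap]
    intro a ha
    show complLift I h₀ (algebraMap A _ a) = 0
    rw [AlgHom.commutes]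
    exact Ideal.Quotient.eq_zero_iff_mem.2 ha
  have := isNoetherianRing_compl (I := I) (C := Localization.Away f)
  have hcc := isAdicComplete_compl (I := I) (C := Localization.Away f) (IsNoetherian.noetherian I)
  refine mem_of_forall_mem_sup_pow
    (IsAdicComplete.le_jacobson_bot (I.map (algebraMap A (Compl I (Localization.Away f))))) _
    fun n => ?_
  obtain ⟨b, hb⟩ := Ideal.Quotient.mk_surjective
    (AdicCompletion.evalₐ (I.map (algebraMap A (Localization.Away f))) n z)
  let e := algebraMap (Localization.Away f) (Compl I (Localization.Away f))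
  have hd : z - e b ∈ (I ^ n).map (algebraMap A (Compl I (Localization.Away f))) := by
    rw [← ker_evalₐ (IsNoetherian.noetherian I), RingHom.mem_ker]
    show AdicCompletion.evalₐ _ _ (_ - e b) = 0
    rw [map_sub, ← hb, AlgHom.commutes, Ideal.Quotient.algebraMap_eq, sub_self]
  have hb' : h₀ b ∈ (I ^ n).map (algebraMap A (A ⧸ p)) := by
    have h1 := Ideal.mem_map_of_mem (complLift I h₀).toRingHom hd
    rw [Ideal.map_map] at h1
    erw [(complLift I h₀).comp_algebraMap] at h1
    change complLift I h₀ (z - e b) ∈ _ at h1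
    rw [map_sub, show complLift I h₀ z = 0 from hz, zero_sub, neg_mem_iff] at h1
    rwa [show e b = AdicCompletion.of _ _ b from rfl, complLift_of] at h1
  obtain ⟨k, a, hka⟩ := IsLocalization.Away.surj f b
  have ha : a ∈ p ⊔ I ^ n := by
    have : algebraMap A (A ⧸ p) a ∈ (I ^ n).map (algebraMap A (A ⧸ p)) := by
      rw [← h₀.commutes, ← hka, map_mul]
      exact Ideal.mul_mem_right _ _ hb'
    rw [Ideal.Quotient.algebraMap_eq] at this
    obtain ⟨x, hx, hxa⟩ := (Ideal.mem_map_iff_of_surjective _ Ideal.Quotient.mk_surjective).1 this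
    have h2 := Ideal.Quotient.eq.1 hxa.symm
    rw [show a = (a - x) + x by ring]
    exact Submodule.add_mem_sup h2 hx
  have hu : IsUnit (algebraMap A (Localization.Away f) f ^ k) :=
    (IsLocalization.Away.algebraMap_isUnit f).pow k
  have hbm : e b ∈ (p ⊔ I ^ n).map (algebraMap A (Compl I (Localization.Away f))) := by
    have h0 : b ∈ (p ⊔ I ^ n).map (algebraMap A (Localization.Away f)) := by
      rw [← Ideal.mul_unit_mem_iff_mem _ hu, hka]
      exact Ideal.mem_map_of_mem _ ha
    have := Ideal.mem_map_of_mem e h0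
    rwa [Ideal.map_map, ← IsScalarTower.algebraMap_eq] at this
  rw [← Ideal.map_pow, show z = (z - e b) + e b by ring, ← Ideal.map_sup]
  exact add_mem (Ideal.map_mono le_sup_right hd) hbm

end CompletedLocalization

end Groth.Agent.Adic.Rig
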