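import Groth.Agent.LocFlat.Basic
import Mathlib.RingTheory.Flat.Stability

/-!
Ascending flatness along a ring map which is bijective modulo an ideal.
-/

namespace Groth.Agent.Adic.Rig

open TensorProduct

universe u

variable {A R S : Type u} [CommRing A] [CommRing R] [CommRing S] [Algebra A R] [Algebra A S]
  [Algebra R S] [IsScalarTower A R S]

/-- `J ⊗ S → S` is injective for an extended ideal `J = p R` when `S` is `A`-flat. -/
theorem rTensor_map_injective (p : Ideal A) [Module.Flat A S] :
    Function.Injective ((p.map (algebraMap A R)).subtype.rTensor S) := by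
  set J := p.map (algebraMap A R) with hJ
  let ι : p →ₗ[A] J := ((Algebra.linearMap A R).comp p.subtype).codRestrict
    (J.restrictScalars A) fun a => Ideal.mem_map_of_mem (algebraMap A R) a.2
  let Φ : p ⊗[A] S →+ J ⊗[R] S :=
    ((TensorProduct.mapOfCompatibleSMul R A A J S).comp (ι.rTensor S)).toAddMonoidHom
  have hgen : ∀ (x : R) (hx : x ∈ J) (m : S), (⟨x, hx⟩ : J) ⊗ₜ[R] m ∈ Φ.range := by
    intro x hx
    induction hx using Submodule.span_induction with
    | mem x h =>
      obtain ⟨a, ha, rfl⟩ := h
      exact fun m => ⟨(⟨a, ha⟩ : p) ⊗ₜ[A] m, rfl⟩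
    | zero =>
      intro m
      rw [show (⟨0, zero_mem J⟩ : J) = 0 from rfl, TensorProduct.zero_tmul]
      exact zero_mem _
    | add x y hx hy ihx ihy =>
      intro m
      rw [show (⟨x + y, add_mem hx hy⟩ : J) = ⟨x, hx⟩ + ⟨y, hy⟩ from rfl, TensorProduct.add_tmul]
      exact add_mem (ihx m) (ihy m)
    | smul r x hx ih =>
      intro m
      rw [show (⟨r • x, J.smul_mem r hx⟩ : J) = r • ⟨x, hx⟩ from rfl, TensorProduct.smul_tmul]
      exact ih (r • m)
  have hsur : ∀ z : J ⊗[R] S, z ∈ Φ.range := by
    intro z
    induction z with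
    | zero => exact zero_mem _
    | tmul x m => exact hgen x.1 x.2 m
    | add x y hx hy => exact add_mem hx hy
  have hinj : Function.Injective (p.subtype.rTensor S) :=
    Module.Flat.rTensor_preserves_injective_linearMap _ Subtype.val_injective
  have key : ∀ z, TensorProduct.lid R S (LinearMap.rTensor S J.subtype (Φ z)) =
      TensorProduct.lid A S (p.subtype.rTensor S z) := fun z => by
    induction z with
    | zero => simp
    | tmul a m =>
      show (algebraMap A R (a : A)) • m = (a : A) • m
      exact algebraMap_smul R (a : A) m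
    | add x y hx hy => simp only [map_add, hx, hy]
  rw [injective_iff_map_eq_zero]
  intro z hz
  obtain ⟨w, rfl⟩ := hsur z
  have := key w
  rw [hz, map_zero] at this
  rw [hinj (((TensorProduct.lid A S).injective (this.symm.trans (map_zero _).symm)).trans
    (map_zero _).symm), map_zero]

theorem flat_of_surjective_mod_of_jacobson [IsNoetherianRing R] [IsNoetherianRing S] (p : Ideal A)
    (hsurj : ∀ r : R, ∃ a : A, r - algebraMap A R a ∈ p.map (algebraMap A R))
    (hp : p.map (algebraMap A S) ≤ (⊥ : Ideal S).jacobson) [Module.Flat A S] : Module.Flat R S := by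
  set J := p.map (algebraMap A R) with hJ
  refine LocFlat.flat_criterion (S := S) S J ?_ (rTensor_map_injective p) ?_
  · rwa [hJ, Ideal.map_map, ← IsScalarTower.algebraMap_eq]
  · -- flat fibre
    have : TensorProduct.CompatibleSMul A R (R ⧸ J) S := ⟨fun r x m => by
      obtain ⟨a, ha⟩ := hsurj r
      have h1 : ∀ d ∈ J, ∀ (x : R ⧸ J) (m : S), x ⊗ₜ[A] (d • m) = 0 := by
        intro d hd
        induction hd using Submodule.span_induction with
        | mem d h =>
          obtain ⟨b, hb, rfl⟩ := h
          intro x m
          rw [algebraMap_smul, TensorProduct.tmul_smul, TensorProduct.smul_tmul',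
            Algebra.smul_def, IsScalarTower.algebraMap_apply A R (R ⧸ J),
            Ideal.Quotient.algebraMap_eq, Ideal.Quotient.eq_zero_iff_mem.2 (Ideal.mem_map_of_mem _ hb),
            zero_mul, TensorProduct.zero_tmul]
        | zero => simp
        | add d e _ _ hd he => intro x m; rw [add_smul, TensorProduct.tmul_add, hd, he, add_zero]
        | smul c d _ hd => intro x m; rw [smul_eq_mul, mul_comm, mul_smul]; exact hd x (c • m)
      have h2 : r • x = a • x := by
        rw [Algebra.smul_def, Algebra.smul_def, IsScalarTower.algebraMap_apply A R (R ⧸ J)]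
        simp only [Ideal.Quotient.algebraMap_eq]
        rw [Ideal.Quotient.eq.2 ha]
      rw [h2, TensorProduct.smul_tmul, show r • m = (r - algebraMap A R a) • m + a • m by
        rw [sub_smul, algebraMap_smul, sub_add_cancel], TensorProduct.tmul_add, h1 _ ha, zero_add]⟩
    have e : (R ⧸ J) ⊗[R] S ≃ₗ[R ⧸ J] (R ⧸ J) ⊗[A] S :=
      TensorProduct.equivOfCompatibleSMul A R (R ⧸ J) (R ⧸ J) S
    exact Module.Flat.of_linearEquiv e

/-- If `A → R` is surjective modulo `p R` and `S` is `A`-flat, local, Noetherian and `p S ≠ S`,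
then `S` is `R`-flat. -/
theorem flat_of_surjective_mod [IsNoetherianRing R] [IsNoetherianRing S] [IsLocalRing S]
    (p : Ideal A) (hsurj : ∀ r : R, ∃ a : A, r - algebraMap A R a ∈ p.map (algebraMap A R))
    (hp : p.map (algebraMap A S) ≠ ⊤) [Module.Flat A S] : Module.Flat R S :=
  flat_of_surjective_mod_of_jacobson p hsurj (by
    rw [IsLocalRing.jacobson_eq_maximalIdeal ⊥ bot_ne_top]
    exact IsLocalRing.le_maximalIdeal hp)

/-- If `p` generates a maximal ideal of `R` and `S` is `A`-flat, then `S` is `R`-flat. -/
theorem flat_of_map_isMaximal [IsNoetherianRing R] [IsNoetherianRing S] (p : Ideal A)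
    [hmax : (p.map (algebraMap A R)).IsMaximal]
    (hp : p.map (algebraMap A S) ≤ (⊥ : Ideal S).jacobson) [Module.Flat A S] : Module.Flat R S := by
  refine LocFlat.flat_criterion (S := S) S (p.map (algebraMap A R)) ?_ (rTensor_map_injective p) ?_
  · rwa [Ideal.map_map, ← IsScalarTower.algebraMap_eq]
  · let _ : Field (R ⧸ p.map (algebraMap A R)) := Ideal.Quotient.field _
    infer_instance

end Groth.Agent.Adic.Rig
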