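import Groth.Agent.Adic.Rig.Flat
import Groth.Agent.RegLoc.AdicNoeth
import Mathlib.RingTheory.AdicCompletion.Algebra
import Mathlib.RingTheory.AdicCompletion.RingHom
import Mathlib.RingTheory.AdicCompletion.Completeness
import Mathlib.RingTheory.AdicCompletion.AsTensorProduct
import Mathlib.RingTheory.RingHom.Flat
import Mathlib.RingTheory.Ideal.Quotient.Noetherian

/-!
Ring maps out of completions, and flatness of maps between completions.
-/

namespace Groth.Agent.Adic.Rig

universe u v

variable {C : Type u} [CommRing C] {J : Ideal C}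

theorem mem_pow_map_iff (hJ : J.FG) (n : ℕ) (z : AdicCompletion J C) :
    z ∈ (J ^ n).map (algebraMap C (AdicCompletion J C)) ↔ AdicCompletion.evalₐ J n z = 0 := by
  have h := AdicCompletion.pow_smul_top_eq_ker_eval (M := C) (n := n) hJ
  have h1 : z ∈ (J ^ n).map (algebraMap C (AdicCompletion J C)) ↔
      z ∈ (J ^ n • ⊤ : Submodule C (AdicCompletion J C)) := by
    rw [Ideal.smul_top_eq_map, Submodule.restrictScalars_mem]
  rw [h1, h, LinearMap.mem_ker, AdicCompletion.eval_apply]
  obtain ⟨a, rfl⟩ := AdicCompletion.mk_surjective J C z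
  simp only [AdicCompletion.evalₐ_mk, AdicCompletion.mk_apply_coe, Ideal.Quotient.eq_zero_iff_mem,
    Submodule.mkQ_apply, Submodule.Quotient.mk_eq_zero, smul_eq_mul, Ideal.mul_top]

theorem exists_sub_mem_pow_map (hJ : J.FG) (z : AdicCompletion J C) (n : ℕ) :
    ∃ c : C, z - algebraMap C (AdicCompletion J C) c ∈
      (J ^ n).map (algebraMap C (AdicCompletion J C)) := by
  obtain ⟨c, hc⟩ := Ideal.Quotient.mk_surjective (AdicCompletion.evalₐ J n z)
  refine ⟨c, (mem_pow_map_iff hJ n _).2 ?_⟩
  rw [map_sub, ← hc, AlgHom.commutes, Ideal.Quotient.algebraMap_eq, sub_self]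

theorem isAdicComplete_map (hJ : J.FG) :
    IsAdicComplete (J.map (algebraMap C (AdicCompletion J C))) (AdicCompletion J C) := by
  have := AdicCompletion.isAdicComplete (M := C) hJ
  exact (IsAdicComplete.map_algebraMap_iff _ _).2 this

variable {D : Type v} [CommRing D]

theorem hom_ext (hJ : J.FG) (K : Ideal D) [IsHausdorff K D] (g h : AdicCompletion J C →+* D)
    (hK : J.map (g.comp (algebraMap C (AdicCompletion J C))) ≤ K)
    (hgh : g.comp (algebraMap C (AdicCompletion J C)) = h.comp (algebraMap C (AdicCompletion J C))) :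
    g = h := by
  refine RingHom.ext fun z => (IsHausdorff.eq_iff_smodEq (I := K)).2 fun n => ?_
  rw [SModEq.sub_mem, smul_eq_mul, Ideal.mul_top]
  obtain ⟨c, hc⟩ := exists_sub_mem_pow_map hJ z n
  have key : ∀ k : AdicCompletion J C →+* D, k.comp (algebraMap C (AdicCompletion J C)) =
      g.comp (algebraMap C (AdicCompletion J C)) →
      k z - g (algebraMap C (AdicCompletion J C) c) ∈ K ^ n := fun k hk => by
    have h1 := Ideal.mem_map_of_mem k hc
    rw [Ideal.map_map, hk, map_sub, Ideal.map_pow] at h1
    rw [show g (algebraMap C (AdicCompletion J C) c) = k (algebraMap C (AdicCompletion J C) c) from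
      (RingHom.congr_fun hk c).symm]
    exact Ideal.pow_right_mono hK n h1
  have := sub_mem (key g rfl) (key h hgh.symm)
  simpa using this

theorem exists_lift (φ : C →+* D) (K : Ideal D) [IsAdicComplete K D] (hK : J.map φ ≤ K) :
    ∃ μ : AdicCompletion J C →+* D, μ.comp (algebraMap C (AdicCompletion J C)) = φ := by
  have hle : ∀ n, J ^ n ≤ (K ^ n).comap φ := fun n => by
    rw [← Ideal.map_le_iff_le_comap, Ideal.map_pow]
    exact Ideal.pow_right_mono hK n
  have compat : ∀ {m n : ℕ} (h : m ≤ n), (Ideal.Quotient.factorPow K h).comp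
      ((Ideal.quotientMap (K ^ n) φ (hle n)).comp (AdicCompletion.evalₐ J n).toRingHom) =
      (Ideal.quotientMap (K ^ m) φ (hle m)).comp (AdicCompletion.evalₐ J m).toRingHom := by
    intro m n h
    refine RingHom.ext fun x => ?_
    obtain ⟨a, rfl⟩ := AdicCompletion.mk_surjective J C x
    simp only [RingHom.comp_apply, AlgHom.toRingHom_eq_coe, RingHom.coe_coe,
      AdicCompletion.evalₐ_mk]
    rw [AdicCompletion.Ideal.mk_eq_mk J h a |>.symm]
    rfl
  refine ⟨IsAdicComplete.liftRingHom K _ compat, RingHom.ext fun c => ?_⟩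
  refine (IsHausdorff.eq_iff_smodEq (I := K)).2 fun n => ?_
  rw [SModEq.sub_mem, smul_eq_mul, Ideal.mul_top, ← Ideal.Quotient.eq]
  refine (IsAdicComplete.mk_liftRingHom K _ compat n _).trans ?_
  simp only [RingHom.comp_apply, AlgHom.toRingHom_eq_coe, RingHom.coe_coe]
  rw [AlgHom.commutes, Ideal.Quotient.algebraMap_eq, Ideal.quotientMap_mk]

/-- The completion of a flat map of Noetherian rings is flat. -/
theorem flat_hom {C' : Type u} [CommRing C'] [IsNoetherianRing C] [IsNoetherianRing C']
    {J' : Ideal C'} (φ : C →+* C') (hφ : φ.Flat) (hJJ' : J' = J.map φ)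
    (μ : AdicCompletion J C →+* AdicCompletion J' C')
    (hμ : μ.comp (algebraMap C (AdicCompletion J C)) =
      (algebraMap C' (AdicCompletion J' C')).comp φ) : μ.Flat := by
  let _ : Algebra C C' := φ.toAlgebra
  let _ : Algebra (AdicCompletion J C) (AdicCompletion J' C') := μ.toAlgebra
  have : IsScalarTower C C' (AdicCompletion J' C') := IsScalarTower.of_algebraMap_eq fun _ => rfl
  have : IsScalarTower C (AdicCompletion J C) (AdicCompletion J' C') :=
    IsScalarTower.of_algebraMap_eq fun c => (RingHom.congr_fun hμ c).symm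
  have : IsNoetherianRing (AdicCompletion J C) :=
    RegLoc.AdicNoeth.isNoetherianRing_adicCompletion _ (IsNoetherian.noetherian _)
  have : IsNoetherianRing (AdicCompletion J' C') :=
    RegLoc.AdicNoeth.isNoetherianRing_adicCompletion _ (IsNoetherian.noetherian _)
  have : Module.Flat C C' := hφ
  have : Module.Flat C' (AdicCompletion J' C') := AdicCompletion.flat_of_isNoetherian _
  have : Module.Flat C (AdicCompletion J' C') := Module.Flat.trans C C' _
  have := isAdicComplete_map (J := J') (IsNoetherian.noetherian _)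
  refine flat_of_surjective_mod_of_jacobson (S := AdicCompletion J' C') J (fun r => ?_) ?_
  · obtain ⟨c, hc⟩ := exists_sub_mem_pow_map (IsNoetherian.noetherian J) r 1
    exact ⟨c, by simpa using hc⟩
  · refine le_trans (le_of_eq ?_) (IsAdicComplete.le_jacobson_bot
      (J'.map (algebraMap C' (AdicCompletion J' C'))))
    subst hJJ'
    rw [IsScalarTower.algebraMap_eq C C' (AdicCompletion (J.map φ) C'), ← Ideal.map_map]
    rfl

end Groth.Agent.Adic.Rig
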