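import Groth.Agent.Adic.Rig.Finite
import Mathlib.RingTheory.Localization.AtPrime.Basic

/-!
Rig-closed primes of completions of algebras of finite type: powers of the prime descend.
-/

namespace Groth.Agent.Adic.Rig

open Groth.Agent.Adic.CV

universe u v

section Localization

variable {P B : Type*} [CommRing P] [CommRing B] [Algebra P B]

/-- If `P → B` is bijective modulo `q ^ m`, so is the map of local rings. -/
theorem localRingHom_bijective_mod_pow (q : Ideal B) [q.IsPrime] (q' : Ideal P) [q'.IsPrime]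
    (hq : q' = q.comap (algebraMap P B)) {m : ℕ} (hm : 1 ≤ m)
    (hinj : ∀ x : P, algebraMap P B x ∈ q ^ m → x ∈ q' ^ m)
    (hsurj : ∀ b : B, ∃ x : P, b - algebraMap P B x ∈ q ^ m) :
    (∀ x : Localization.AtPrime q', Localization.localRingHom q' q (algebraMap P B) hq x ∈
        IsLocalRing.maximalIdeal (Localization.AtPrime q) ^ m →
      x ∈ IsLocalRing.maximalIdeal (Localization.AtPrime q') ^ m) ∧
    (∀ y : Localization.AtPrime q, ∃ x : Localization.AtPrime q',
      y - Localization.localRingHom q' q (algebraMap P B) hq x ∈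
        IsLocalRing.maximalIdeal (Localization.AtPrime q) ^ m) := by
  set h := Localization.localRingHom q' q (algebraMap P B) hq with hh
  have hle : q ^ m ≤ q := Ideal.pow_le_self (by omega)
  have hmem : ∀ s : B, s ∉ q → ∀ t : P, s - algebraMap P B t ∈ q ^ m → t ∉ q' := fun s hs t ht ht' =>
    hs (by
      have h2 : algebraMap P B t ∈ q := by rw [hq] at ht'; exact ht'
      simpa using add_mem (hle ht) h2)
  rw [← Localization.AtPrime.map_eq_maximalIdeal, ← Ideal.map_pow,
    ← Localization.AtPrime.map_eq_maximalIdeal, ← Ideal.map_pow]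
  constructor
  · intro x hx
    obtain ⟨a, s, rfl⟩ := IsLocalization.exists_mk'_eq q'.primeCompl x
    rw [hh, Localization.localRingHom_mk', IsLocalization.mk'_mem_map_algebraMap_iff] at hx
    obtain ⟨t, ht, hta⟩ := hx
    obtain ⟨t', ht'⟩ := hsurj t
    rw [IsLocalization.mk'_mem_map_algebraMap_iff]
    refine ⟨t', hmem t ht t' ht', hinj _ ?_⟩
    rw [map_mul, show algebraMap P B t' * algebraMap P B a =
      t * algebraMap P B a - (t - algebraMap P B t') * algebraMap P B a by ring]
    exact sub_mem hta (Ideal.mul_mem_right _ _ ht')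
  · intro y
    obtain ⟨b, s, rfl⟩ := IsLocalization.exists_mk'_eq q.primeCompl y
    obtain ⟨b', hb'⟩ := hsurj b
    obtain ⟨s', hs'⟩ := hsurj (s : B)
    refine ⟨IsLocalization.mk' _ b' (⟨s', hmem s s.2 s' hs'⟩ : q'.primeCompl), ?_⟩
    rw [hh, Localization.localRingHom_mk', ← IsLocalization.mk'_sub,
      IsLocalization.mk'_mem_map_algebraMap_iff]
    refine ⟨1, q.primeCompl.one_mem, ?_⟩
    rw [one_mul]
    have e : b * algebraMap P B s' - algebraMap P B b' * s =
      (b - algebraMap P B b') * algebraMap P B s' - algebraMap P B b' * (s - algebraMap P B s') := by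
      ring
    convert! sub_mem (Ideal.mul_mem_right (algebraMap P B s') _ hb')
      (Ideal.mul_mem_left _ (algebraMap P B b') hs') using 1

end Localization

section

variable {A : Type u} [CommRing A] [IsNoetherianRing A] {I : Ideal A} [IsAdicComplete I A]
  {C : Type u} [CommRing C] [Algebra A C]

theorem exists_sub_mem_pow (hI : I.FG) (b : Compl I C) (n : ℕ) :
    ∃ x : C, b - algebraMap C (Compl I C) x ∈ (I ^ n).map (algebraMap A (Compl I C)) := by
  obtain ⟨x, hx⟩ := Ideal.Quotient.mk_surjective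
    (AdicCompletion.evalₐ (I.map (algebraMap A C)) n b)
  refine ⟨x, ?_⟩
  rw [← ker_evalₐ hI, RingHom.mem_ker]
  show AdicCompletion.evalₐ _ _ (_ - algebraMap C (Compl I C) x) = 0
  rw [map_sub, ← hx, AlgHom.commutes, Ideal.Quotient.algebraMap_eq, sub_self]

/-- If `C / K` is finite over `A`, then `C` surjects onto any quotient `Ĉ / N` with `K` mapping
into `N`. -/
theorem exists_sub_mem (N : Ideal (Compl I C)) (K : Ideal C)
    (hK : K ≤ N.comap (algebraMap C (Compl I C))) [Module.Finite A (C ⧸ K)] [IsNoetherianRing C]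
    (b : Compl I C) : ∃ x : C, b - algebraMap C (Compl I C) x ∈ N := by
  have := isNoetherianRing_compl (I := I) (C := C)
  have := isAdicComplete_compl (I := I) (C := C) (IsNoetherian.noetherian I)
  have := isHausdorff_quot (I := I) N
  have : IsAdicComplete I (C ⧸ K) := Adic.isAdicComplete_of_finite I
  let φ : (C ⧸ K) →ₐ[A] (Compl I C) ⧸ N :=
    Ideal.quotientMapₐ N (IsScalarTower.toAlgHom A C (Compl I C)) hK
  have hs : Function.Surjective φ.toLinearMap := surjective_of_mkQ_comp_surjective (I := I) (by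
    intro y
    obtain ⟨y, rfl⟩ := Submodule.mkQ_surjective _ y
    obtain ⟨b, rfl⟩ := Ideal.Quotient.mk_surjective y
    obtain ⟨x, hx⟩ := exists_sub_mem_pow (IsNoetherian.noetherian I) b 1
    refine ⟨Ideal.Quotient.mk K x, ?_⟩
    rw [LinearMap.comp_apply, Submodule.mkQ_apply, Submodule.mkQ_apply, Submodule.Quotient.eq,
      Ideal.smul_top_eq_map, Submodule.restrictScalars_mem]
    show φ (Ideal.Quotient.mk K x) - Ideal.Quotient.mk N b ∈ _
    rw [← neg_sub, neg_mem_iff, show φ (Ideal.Quotient.mk K x) =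
      Ideal.Quotient.mk N (algebraMap C (Compl I C) x) from rfl, ← map_sub,
      IsScalarTower.algebraMap_eq A (Compl I C) (Compl I C ⧸ N), ← Ideal.map_map,
      Ideal.Quotient.algebraMap_eq]
    exact Ideal.mem_map_of_mem _ (by simpa using hx))
  obtain ⟨y, hy⟩ := hs (Ideal.Quotient.mk N b)
  obtain ⟨x, rfl⟩ := Ideal.Quotient.mk_surjective y
  exact ⟨x, Ideal.Quotient.eq.1 hy.symm⟩

theorem exists_bijective_mod_pow [Algebra.FiniteType A C] (q : Ideal (Compl I C)) [q.IsPrime]
    (hq : RigClosed (I.map (algebraMap A (Compl I C))) q)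
    (hp : RigClosed I (q.comap (algebraMap A (Compl I C)))) (m : ℕ) :
    (∀ x : C, algebraMap C (Compl I C) x ∈ q ^ m → x ∈ q.comap (algebraMap C (Compl I C)) ^ m) ∧
      ∀ b : Compl I C, ∃ x : C, b - algebraMap C (Compl I C) x ∈ q ^ m := by
  have := Algebra.FiniteType.isNoetherianRing A C
  have := isNoetherianRing_compl (I := I) (C := C)
  have hc := isAdicComplete_compl (I := I) (C := C) (IsNoetherian.noetherian I)
  have hjac := IsAdicComplete.le_jacobson_bot (I.map (algebraMap A (Compl I C)))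
  have hft : Algebra.FiniteType A (Compl I C ⧸ I.map (algebraMap A (Compl I C))) := by
    have h1 : Algebra.FiniteType A (C ⧸ I.map (algebraMap A C) ^ 1) := inferInstance
    have := h1.equiv (quotCompl (C := C) (IsNoetherian.noetherian I) 1).symm
    rwa [pow_one] at this
  set q' := q.comap (algebraMap C (Compl I C)) with hq'
  -- `C / q'` is finite
  have := RigClosed.finite_of_comap hft hq hp
  let g : (C ⧸ q') →ₐ[A] (Compl I C) ⧸ q :=
    Ideal.quotientMapₐ q (IsScalarTower.toAlgHom A C (Compl I C)) le_rfl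
  have : Module.Finite A (C ⧸ q') :=
    Module.Finite.of_injective g.toLinearMap Ideal.quotientMap_injective
  -- `q` is generated by `q'`
  have hgen : q ≤ q'.map (algebraMap C (Compl I C)) := by
    intro z hz
    refine mem_of_forall_mem_sup_pow hjac _ fun n => ?_
    rw [← Ideal.map_pow]
    obtain ⟨x, hx⟩ := exists_sub_mem_pow (IsNoetherian.noetherian I) z n
    have hsur : Function.Surjective g := fun y => by
      obtain ⟨b, rfl⟩ := Ideal.Quotient.mk_surjective y
      obtain ⟨x, hx⟩ := exists_sub_mem q q' le_rfl b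
      exact ⟨Ideal.Quotient.mk q' x, (Ideal.Quotient.eq.2 hx).symm⟩
    have h1 : g (Ideal.Quotient.mk q' x) ∈ (I ^ n).map (algebraMap A (Compl I C ⧸ q)) := by
      rw [show g (Ideal.Quotient.mk q' x) =
        Ideal.Quotient.mk q (algebraMap C (Compl I C) x) from rfl,
        IsScalarTower.algebraMap_eq A (Compl I C) (Compl I C ⧸ q), ← Ideal.map_map,
        Ideal.Quotient.algebraMap_eq,
        show Ideal.Quotient.mk q (algebraMap C (Compl I C) x) =
          - Ideal.Quotient.mk q (z - algebraMap C (Compl I C) x) by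
            rw [map_sub, Ideal.Quotient.eq_zero_iff_mem.2 hz, zero_sub, neg_neg]]
      exact neg_mem (Ideal.mem_map_of_mem _ hx)
    have h2 : g (Ideal.Quotient.mk q' x) ∈
        ((I ^ n).map (algebraMap A (C ⧸ q'))).map g.toRingHom := by
      rw [Ideal.map_map]; erw [g.comp_algebraMap]; exact h1
    obtain ⟨w, hw, hwx⟩ := (Ideal.mem_map_iff_of_surjective g.toRingHom hsur).1 h2
    rw [IsScalarTower.algebraMap_eq A C (C ⧸ q'), ← Ideal.map_map, Ideal.Quotient.algebraMap_eq] at hw
    obtain ⟨w', hw', rfl⟩ := (Ideal.mem_map_iff_of_surjective _ Ideal.Quotient.mk_surjective).1 hw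
    have h3 : x - w' ∈ q' := Ideal.Quotient.eq.1 (Ideal.quotientMap_injective hwx.symm)
    have h4 : algebraMap C (Compl I C) w' ∈ (I ^ n).map (algebraMap A (Compl I C)) := by
      rw [IsScalarTower.algebraMap_eq A C (Compl I C), ← Ideal.map_map]
      exact Ideal.mem_map_of_mem _ hw'
    rw [show z = algebraMap C (Compl I C) (x - w') +
      (algebraMap C (Compl I C) w' + (z - algebraMap C (Compl I C) x)) by rw [map_sub]; ring]
    exact Submodule.add_mem_sup (Ideal.mem_map_of_mem _ h3) (add_mem h4 hx)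
  -- `C / q'^m` is finite
  have : Module.Finite A (C ⧸ q' ^ m) := by
    let N := q'.map (Ideal.Quotient.mk (q' ^ m))
    have h0 : ∀ x ∈ q', (Ideal.Quotient.mkₐ A N).comp (Ideal.Quotient.mkₐ A (q' ^ m)) x = 0 :=
      fun x hx => Ideal.Quotient.eq_zero_iff_mem.2 (Ideal.mem_map_of_mem _ hx)
    let φ : (C ⧸ q') →ₐ[A] (C ⧸ q' ^ m) ⧸ N := Ideal.Quotient.liftₐ q'
      ((Ideal.Quotient.mkₐ A N).comp (Ideal.Quotient.mkₐ A (q' ^ m))) h0
    have : Module.Finite A ((C ⧸ q' ^ m) ⧸ N) := Module.Finite.of_surjective φ.toLinearMap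
      (Ideal.Quotient.lift_surjective_of_surjective q' h0
        (Ideal.Quotient.mk_surjective.comp Ideal.Quotient.mk_surjective))
    exact finite_of_le_nilradical (N := N) (Ideal.map_le_iff_le_comap.2 fun x hx =>
      ⟨m, by rw [← map_pow]; exact Ideal.Quotient.eq_zero_iff_mem.2 (Ideal.pow_mem_pow hx m)⟩)
  have hpow : q ^ m ≤ (q' ^ m).map (algebraMap C (Compl I C)) := by
    rw [Ideal.map_pow]; exact Ideal.pow_right_mono hgen m
  refine ⟨fun x hx => ?_, fun b => exists_sub_mem (q ^ m) (q' ^ m) (Ideal.le_comap_pow _ m) b⟩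
  -- injectivity
  have : IsAdicComplete I (C ⧸ q' ^ m) := Adic.isAdicComplete_of_finite I
  rw [← Ideal.Quotient.eq_zero_iff_mem]
  refine IsHausdorff.haus (I := I) inferInstance _ fun n => ?_
  rw [SModEq.zero, Ideal.smul_top_eq_map, Submodule.restrictScalars_mem]
  have h1 := Ideal.mem_map_of_mem (AdicCompletion.evalₐ (I.map (algebraMap A C)) n).toRingHom
    (hpow hx)
  rw [Ideal.map_map] at h1
  erw [(AdicCompletion.evalₐ (I.map (algebraMap A C)) n).comp_algebraMap] at h1
  change AdicCompletion.evalₐ (I.map (algebraMap A C)) n (algebraMap C (Compl I C) x) ∈ _ at h1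
  rw [AlgHom.commutes, Ideal.Quotient.algebraMap_eq] at h1
  obtain ⟨w, hw, hwx⟩ := (Ideal.mem_map_iff_of_surjective _ Ideal.Quotient.mk_surjective).1 h1
  have h2 : x - w ∈ (I ^ n).map (algebraMap A C) := by
    rw [Ideal.map_pow]; exact Ideal.Quotient.eq.1 hwx.symm
  rw [IsScalarTower.algebraMap_eq A C (C ⧸ q' ^ m), ← Ideal.map_map, Ideal.Quotient.algebraMap_eq,
    show Ideal.Quotient.mk (q' ^ m) x = Ideal.Quotient.mk (q' ^ m) (x - w) by
      rw [map_sub, Ideal.Quotient.eq_zero_iff_mem.2 hw, sub_zero]]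
  exact Ideal.mem_map_of_mem _ h2

end

end Groth.Agent.Adic.Rig
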