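import Groth.Agent.Adic.Rig.Unramified
import Groth.Agent.Adic.Rig.BaseChange

/-!
Rig-flatness is stable under completed base change: `E` is the completed tensor product, given by
its universal property.
-/

namespace Groth.Agent.Adic.Rig

open TensorProduct

universe u

theorem rigFlat_pushout {A : Type u} [CommRing A] [IsNoetherianRing A] {I : Ideal A}
    [IsAdicComplete I A] {B : Type u} [CommRing B] [Algebra A B] [IsNoetherianRing B]
    (hAB : (∀ f : A, ∀ ψf : (AdicCompletion (I.map (algebraMap A (Localization.Away f))) (Localization.Away f)) →+* (AdicCompletion ((I.map (algebraMap A B)).map (algebraMap B (Localization.Away (algebraMap A B f)))) (Localization.Away (algebraMap A B f))), ψf.comp (algebraMap (Localization.Away f) (AdicCompletion (I.map (algebraMap A (Localization.Away f))) (Localization.Away f))) = (algebraMap (Localization.Away (algebraMap A B f)) (AdicCompletion ((I.map (algebraMap A B)).map (algebraMap B (Localization.Away (algebraMap A B f)))) (Localization.Away (algebraMap A B f)))).comp (Localization.awayMap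 (algebraMap A B) f) → ∀ qf : PrimeSpectrum (AdicCompletion ((I.map (algebraMap A B)).map (algebraMap B (Localization.Away (algebraMap A B f)))) (Localization.Away (algebraMap A B f))), (¬ (((I.map (algebraMap A B)).map (algebraMap B (Localization.Away (algebraMap A B f)))).map (algebraMap (Localization.Away (algebraMap A B f)) (AdicCompletion ((I.map (algebraMap A B)).map (algebraMap B (Localization.Away (algebraMap A B f)))) (Localization.Away (algebraMap A B f))))) ≤ qf.asIdeal ∧ ∀ y : PrimeSpectrum (AdicCompletion ((I.map (algebraMap A B)).map (algebraMap B (Localization.Away (algebraMap A B f)))) (Localization.Away (algebraMap A B f))), qf ≤ y → ¬ (((I.map (algebraMap A B)).map (algebraMap B (Localization.Away (algebraMap A B f)))).map (algebraMap (Localization.Away (algebraMap A B f)) (AdicCompletion ((I.map (algebraMap A B)).map (algebraMap B (Localization.Away (algebraMap A B f)))) (Localization.Away (algebraMap A B f))))) ≤ y.asIdeal → y = qf) → ((algebraMap (AdicCompletion ((I.map (algebraMap A B)).map (algebraMap B (Localization.Away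 (algebraMap A B f)))) (Localization.Away (algebraMap A B f))) (Localization.AtPrime qf.asIdeal)).comp ψf).Flat))
    {C : Type u} [CommRing C] [Algebra A C] [IsNoetherianRing C]
    (hftC : Algebra.FiniteType A (C ⧸ I.map (algebraMap A C)))
    {E : Type u} [CommRing E] [Algebra A E] [Algebra C E] [IsScalarTower A C E] [IsNoetherianRing E]
    (hftE : Algebra.FiniteType A (E ⧸ (I.map (algebraMap A C)).map (algebraMap C E)))
    (φB : B →+* E) (hφB : ∀ a : A, φB (algebraMap A B a) = algebraMap A E a)
    (hext : ∀ {D : Type u} [CommRing D] (K : Ideal D) [IsHausdorff K D] (g h : E →+* D),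
      ((I.map (algebraMap A C)).map (algebraMap C E)).map h ≤ K →
      (∀ x : C, g (algebraMap C E x) = h (algebraMap C E x)) →
      (∀ b : B, g (φB b) = h (φB b)) → g = h)
    (hlift : ∀ {W : Type u} [CommRing W] (K : Ideal W) [IsAdicComplete K W] (fC : C →+* W)
      (fB : B →+* W), (∀ a : A, fC (algebraMap A C a) = fB (algebraMap A B a)) →
      (I.map (algebraMap A C)).map fC ≤ K →
      ∃ φE : E →+* W, (∀ x, φE (algebraMap C E x) = fC x) ∧ ∀ b, φE (φB b) = fB b)
    (h : C)
    (ψh : AdicCompletion ((I.map (algebraMap A C)).map (algebraMap C (Localization.Away h)))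
        (Localization.Away h) →+*
      AdicCompletion (((I.map (algebraMap A C)).map (algebraMap C E)).map
        (algebraMap E (Localization.Away (algebraMap C E h)))) (Localization.Away (algebraMap C E h)))
    (hψh : ψh.comp (algebraMap (Localization.Away h) _) =
      (algebraMap (Localization.Away (algebraMap C E h)) _).comp (Localization.awayMap (algebraMap C E) h))
    (qh : PrimeSpectrum (AdicCompletion (((I.map (algebraMap A C)).map (algebraMap C E)).map
      (algebraMap E (Localization.Away (algebraMap C E h)))) (Localization.Away (algebraMap C E h))))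
    (hqh : RigClosed ((((I.map (algebraMap A C)).map (algebraMap C E)).map
      (algebraMap E (Localization.Away (algebraMap C E h)))).map (algebraMap _ _)) qh.asIdeal) :
    ((algebraMap _ (Localization.AtPrime qh.asIdeal)).comp ψh).Flat := by
  let IC := I.map (algebraMap A C)
  let IB := I.map (algebraMap A B)
  let IE : Ideal E := IC.map (algebraMap C E)
  have hIEA : IE = I.map (algebraMap A E) := by
    show (I.map (algebraMap A C)).map (algebraMap C E) = I.map (algebraMap A E)
    rw [IsScalarTower.algebraMap_eq A C E]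
    exact Ideal.map_map _ _
  let h₀ := algebraMap C E h
  let T' := AdicCompletion (IE.map (algebraMap E (Localization.Away h₀))) (Localization.Away h₀)
  let K' : Ideal T' := (IE.map (algebraMap E (Localization.Away h₀))).map
    (algebraMap (Localization.Away h₀) T')
  have hq : RigClosed K' qh.asIdeal := hqh
  have : IsNoetherianRing T' := isNoetherianRing_away h₀
  have : IsAdicComplete K' T' := isAdicComplete_away h₀
  let D := T' ⧸ qh.asIdeal
  let mkq : T' →+* D := Ideal.Quotient.mk qh.asIdeal
  have hKe : IE.map (algebraMap E T') = K' := away_ideal_map h₀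
  have hcompD : algebraMap A D = (mkq.comp (algebraMap E T')).comp (algebraMap A E) := rfl
  have hICD : IE.map (mkq.comp (algebraMap E T')) = I.map (algebraMap A D) := by
    rw [hcompD]
    exact (congrArg (Ideal.map _) hIEA).trans (Ideal.map_map _ _)
  have hKD : I.map (algebraMap A D) = K'.map mkq := by
    rw [← hICD, ← Ideal.map_map]
    exact congrArg (Ideal.map mkq) hKe
  have : IsAdicComplete (I.map (algebraMap A D)) D := by
    rw [hKD]; exact isAdicComplete_quotient _
  have hftD : Algebra.FiniteType A (D ⧸ I.map (algebraMap A D)) :=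
    finiteType_quot_away hftE mkq Ideal.Quotient.mk_surjective
      (fun a => (RingHom.congr_fun hcompD a).symm) _ hICD.le
  have hbot : RigClosed (I.map (algebraMap A D)) (⊥ : Ideal D) := by
    rw [hKD]; exact hq.bot_quotient
  obtain ⟨c, hc, hfin⟩ := exists_away_finite hftD hbot
  let g := algebraMap A B c
  let h'' := h * algebraMap A C c
  let g₃ := algebraMap C E h''
  have hIEB : IE = IB.map φB := by
    rw [hIEA]
    show I.map (algebraMap A E) = (I.map (algebraMap A B)).map φB
    rw [Ideal.map_map]
    exact congrArg (fun φ => Ideal.map φ I) (RingHom.ext fun a => (hφB a).symm)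
  let T₁ := AdicCompletion (I.map (algebraMap A (Localization.Away c))) (Localization.Away c)
  let T₂ := AdicCompletion (IB.map (algebraMap B (Localization.Away g))) (Localization.Away g)
  let T₁' := AdicCompletion (IC.map (algebraMap C (Localization.Away h''))) (Localization.Away h'')
  let T₃ := AdicCompletion (IE.map (algebraMap E (Localization.Away g₃))) (Localization.Away g₃)
  let I₁ : Ideal T₁ := (I.map (algebraMap A (Localization.Away c))).map
    (algebraMap (Localization.Away c) T₁)
  let J₁' : Ideal T₁' := (IC.map (algebraMap C (Localization.Away h''))).map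
    (algebraMap (Localization.Away h'') T₁')
  let J₂ : Ideal T₂ := (IB.map (algebraMap B (Localization.Away g))).map
    (algebraMap (Localization.Away g) T₂)
  let J₃ : Ideal T₃ := (IE.map (algebraMap E (Localization.Away g₃))).map
    (algebraMap (Localization.Away g₃) T₃)
  have : IsNoetherianRing T₁ := isNoetherianRing_away c
  have : IsNoetherianRing T₂ := isNoetherianRing_away g
  have : IsNoetherianRing T₁' := isNoetherianRing_away h''
  have : IsNoetherianRing T₃ := isNoetherianRing_away g₃
  have : IsAdicComplete I₁ T₁ := isAdicComplete_away c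
  have : IsAdicComplete J₁' T₁' := isAdicComplete_away h''
  have : IsAdicComplete J₂ T₂ := isAdicComplete_away g
  have : IsAdicComplete J₃ T₃ := isAdicComplete_away g₃
  have hgg₃ : φB g ∣ g₃ := by
    show φB (algebraMap A B c) ∣ algebraMap C E (h * algebraMap A C c)
    rw [hφB, map_mul, ← IsScalarTower.algebraMap_apply A C E]
    exact dvd_mul_left _ _
  obtain ⟨μ, hμ, hμflat⟩ := exists_away_hom (IC := IE) (g₀ := h₀) (g := g₃)
    (map_dvd _ (dvd_mul_right h _))
  obtain ⟨π, hπ⟩ := exists_away_lift (IC := IE) (g := g₃) (mkq.comp (algebraMap E T'))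
    (I.map (algebraMap A D)) hICD.le (by
      show IsUnit (mkq (algebraMap E T' (algebraMap C E (h * algebraMap A C c))))
      rw [map_mul, map_mul, map_mul]
      refine IsUnit.mul (IsUnit.map _ ?_) ?_
      · rw [IsScalarTower.algebraMap_apply E (Localization.Away h₀) T']
        exact (IsLocalization.Away.algebraMap_isUnit h₀).map _
      · rw [← IsScalarTower.algebraMap_apply A C E]
        exact (RingHom.congr_fun hcompD c) ▸ hc)
  have hπμ : π.comp μ = mkq := by
    refine away_hom_ext (IC := IE) (g := h₀) (I.map (algebraMap A D)) _ _ ?_ ?_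
    · rw [RingHom.comp_assoc, hμ, hπ, hICD]
    · rw [RingHom.comp_assoc, hμ, hπ]
  obtain ⟨ψ₁, hψ₁⟩ := exists_away_map (IC := IB) (algebraMap A B) rfl c
  obtain ⟨ψ'', hψ''⟩ := exists_away_map (IC := IE) (algebraMap C E) rfl h''
  obtain ⟨ν, hν⟩ := exists_away_hom_map (IC := I) (IC' := IC) (g₀ := c) (g := h'')
    (algebraMap A C) rfl (dvd_mul_left _ h)
  obtain ⟨κ, hκ⟩ := exists_away_hom_map (IC := IB) (IC' := IE) (g₀ := g) (g := g₃) φB hIEB hgg₃
  have hA₁ := away_map_comp hψ₁
  have hA'' := away_map_comp hψ''
  have eκ : ∀ b : B, κ (algebraMap B T₂ b) = algebraMap E T₃ (φB b) := RingHom.congr_fun hκ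
  have eψ'' : ∀ x : C, ψ'' (algebraMap C T₁' x) = algebraMap E T₃ (algebraMap C E x) :=
    RingHom.congr_fun hA''
  have e₁ : ∀ a : A, κ (ψ₁ (algebraMap A T₁ a)) = algebraMap E T₃ (algebraMap A E a) := fun a => by
    rw [show ψ₁ (algebraMap A T₁ a) = algebraMap B T₂ (algebraMap A B a) from RingHom.congr_fun hA₁ a,
      eκ, hφB]
  have e₂ : ∀ a : A, ψ'' (ν (algebraMap A T₁ a)) = algebraMap E T₃ (algebraMap A E a) := fun a => by
    rw [show ν (algebraMap A T₁ a) = algebraMap C T₁' (algebraMap A C a) from RingHom.congr_fun hν a,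
      eψ'', ← IsScalarTower.algebraMap_apply A C E]
  have hsq : κ.comp ψ₁ = ψ''.comp ν := by
    refine away_hom_ext (IC := I) (g := c) J₃ _ _ (le_of_eq ?_)
      (RingHom.ext fun a => (e₁ a).trans (e₂ a).symm)
    rw [show (κ.comp ψ₁).comp (algebraMap A T₁) = (algebraMap E T₃).comp (algebraMap A E) from
      RingHom.ext e₁, ← Ideal.map_map]
    exact (congrArg (Ideal.map _) hIEA.symm).trans (away_ideal_map g₃)
  -- finiteness and rig-closed primes
  have hcompat : (π.comp (κ.comp ψ₁)).comp (algebraMap A T₁) = algebraMap A D :=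
    RingHom.ext fun a => by
      show π (κ (ψ₁ (algebraMap A T₁ a))) = algebraMap A D a
      rw [e₁]
      exact (RingHom.congr_fun hπ _).trans (RingHom.congr_fun hcompD a).symm
  have hfin₁ : (π.comp (κ.comp ψ₁)).Finite := hfin c dvd_rfl _ hcompat
  have hfin₂ : (π.comp κ).Finite := RingHom.Finite.of_comp_finite (f := ψ₁) hfin₁
  have hq₂ := rigClosed_ker_away (IC := IB) _ hfin₂ (by
    rw [RingHom.comp_assoc, hκ, ← RingHom.comp_assoc, hπ]
    exact ((Ideal.map_map _ _).symm.trans (congrArg (Ideal.map _) hIEB.symm)).trans hICD) hbot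
  set q₃ := RingHom.ker π with hq₃def
  set q₂ := RingHom.ker (π.comp κ) with hq₂def
  have : q₃.IsPrime := RingHom.ker_isPrime _
  have : q₂.IsPrime := RingHom.ker_isPrime _
  have h1 := hAB c ψ₁ hψ₁ ⟨q₂, inferInstance⟩ (RigClosed.toSpec (q := ⟨q₂, inferInstance⟩) hq₂)
  set p' := RingHom.ker (π.comp ψ'') with hp'def
  have : p'.IsPrime := RingHom.ker_isPrime _
  -- algebra structures over `T₁`
  let _ : Algebra T₁ T₁' := ν.toAlgebra
  let _ : Algebra T₁ T₂ := ψ₁.toAlgebra
  have hνA : (algebraMap T₁ T₁').comp (algebraMap A T₁) =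
      (algebraMap C T₁').comp (algebraMap A C) := hν
  have : IsScalarTower A T₁ T₁' := IsScalarTower.of_algebraMap_eq fun a =>
    (IsScalarTower.algebraMap_apply A C T₁' a).trans (RingHom.congr_fun hνA a).symm
  have : IsScalarTower A T₁ T₂ := IsScalarTower.of_algebraMap_eq fun a =>
    (IsScalarTower.algebraMap_apply A B T₂ a).trans (RingHom.congr_fun hA₁ a).symm
  have hI₁J : I₁.map (algebraMap T₁ T₁') = J₁' := by
    show _ = (IC.map (algebraMap C (Localization.Away h''))).map
      (algebraMap (Localization.Away h'') T₁')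
    rw [← away_ideal_map h'']
    exact (congrArg (Ideal.map _) (away_ideal_map c).symm).trans ((Ideal.map_map _ _).trans
      ((congrArg (fun φ => Ideal.map φ I) hνA).trans (Ideal.map_map _ _).symm))
  have : IsAdicComplete (I₁.map (algebraMap T₁ T₁')) T₁' := by
    rw [hI₁J]; exact isAdicComplete_away h''
  have hft' : Algebra.FiniteType T₁ (T₁' ⧸ I₁.map (algebraMap T₁ T₁')) := by
    rw [hI₁J]
    have : Algebra.FiniteType A (T₁' ⧸ J₁') := finiteType_quot_away (IC := IC) (A := A) hftC
      (RingHom.id T₁') Function.surjective_id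
      (fun a => (IsScalarTower.algebraMap_apply A C T₁' a).symm) J₁'
      (le_of_eq (away_ideal_map h''))
    exact Algebra.FiniteType.of_restrictScalars_finiteType A T₁ _
  have hfinp' : Module.Finite T₁ (T₁' ⧸ p') := by
    let _ : Algebra T₁ D := (π.comp (κ.comp ψ₁)).toAlgebra
    have : Module.Finite T₁ D := hfin₁
    let φ : T₁' →ₐ[T₁] D :=
      { π.comp ψ'' with commutes' := fun x => congrArg π (RingHom.congr_fun hsq x).symm }
    exact Module.Finite.of_injective (Ideal.kerLiftAlg φ).toLinearMap
      (Ideal.kerLiftAlg_injective φ)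
  let S := Localization.AtPrime q₃
  let _ : Algebra T₁' S := ((algebraMap T₃ S).comp ψ'').toAlgebra
  let _ : Algebra T₁ S := ((algebraMap T₃ S).comp (ψ''.comp ν)).toAlgebra
  have : IsScalarTower T₁ T₁' S := IsScalarTower.of_algebraMap_eq fun _ => rfl
  have hjac : p'.map (algebraMap T₁' S) ≤ (⊥ : Ideal S).jacobson := by
    rw [IsLocalRing.jacobson_eq_maximalIdeal ⊥ bot_ne_top, Ideal.map_le_iff_le_comap]
    intro x hx
    show algebraMap T₃ S (ψ'' x) ∈ IsLocalRing.maximalIdeal S
    rw [IsLocalization.AtPrime.to_map_mem_maximal_iff S q₃]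
    exact hx
  have hRS : Module.Flat T₁' S := by
    refine flat_of_forall_quot p' hjac fun n => ?_
    set J := p' ^ n with hJdef
    let P := T₁' ⧸ J
    have : Module.Finite T₁ P := finite_quotient hft' J p' fun x hx =>
      ⟨n, Ideal.mem_sup_right (Ideal.pow_mem_pow hx n)⟩
    let K : Ideal T₃ := J.map ψ''
    let mkK : T₃ →+* T₃ ⧸ K := Ideal.Quotient.mk K
    -- the pushout is complete
    let W := T₂ ⊗[T₁] P
    let KW : Ideal W := J₂.map (algebraMap T₂ W)
    have : IsAdicComplete KW W :=
      (IsAdicComplete.map_algebraMap_iff _ _).2 (Adic.isAdicComplete_of_finite J₂)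
    let iP : P →ₐ[T₁] W := Algebra.TensorProduct.includeRight
    let aA : A →+* W := (algebraMap T₂ W).comp (algebraMap A T₂)
    have hiP : ∀ a : A, iP (Ideal.Quotient.mk J (algebraMap C T₁' (algebraMap A C a))) = aA a := by
      intro a
      have e3 : algebraMap C T₁' (algebraMap A C a) = algebraMap T₁ T₁' (algebraMap A T₁ a) :=
        (RingHom.congr_fun hνA a).symm
      rw [e3, show Ideal.Quotient.mk J (algebraMap T₁ T₁' (algebraMap A T₁ a)) =
        algebraMap T₁ P (algebraMap A T₁ a) from rfl, AlgHom.commutes,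
        IsScalarTower.algebraMap_apply T₁ T₂ W, ← IsScalarTower.algebraMap_apply A T₁ T₂]
      rfl
    let _ : Algebra A W := aA.toAlgebra
    let fC : C →ₐ[A] W :=
      { iP.toRingHom.comp ((Ideal.Quotient.mk J).comp (algebraMap C T₁')) with commutes' := hiP }
    let fB : B →ₐ[A] W :=
      { (algebraMap T₂ W).comp (algebraMap B T₂) with
        commutes' := fun a => congrArg (algebraMap T₂ W) (IsScalarTower.algebraMap_apply A B T₂ a).symm }
    have hKW : I.map aA = KW := by
      show I.map ((algebraMap T₂ W).comp (algebraMap A T₂)) = KW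
      rw [← Ideal.map_map, IsScalarTower.algebraMap_eq A B T₂]
      refine congrArg (Ideal.map (algebraMap T₂ W)) ?_
      exact (Ideal.map_map _ _).symm.trans (away_ideal_map g)
    obtain ⟨φE, hφEC, hφEB⟩ := hlift KW fC.toRingHom fB.toRingHom
      (fun a => (fC.commutes a).trans (fB.commutes a).symm)
      (le_of_eq ((Ideal.map_map _ _).trans
        ((congrArg (fun φ => Ideal.map φ I) fC.comp_algebraMap).trans hKW)))
    obtain ⟨φ₃, hφ₃⟩ := exists_away_lift (IC := IE) (g := g₃) φE KW (by
        refine le_of_eq ((congrArg (Ideal.map φE) hIEA).trans ((Ideal.map_map _ _).trans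
          ((congrArg (fun φ => Ideal.map φ I) ?_).trans hKW)))
        refine RingHom.ext fun a => ?_
        show φE (algebraMap A E a) = aA a
        rw [IsScalarTower.algebraMap_apply A C E]
        exact (hφEC _).trans (fC.commutes a)) (by
        show IsUnit (φE (algebraMap C E h''))
        rw [hφEC]
        refine ((IsUnit.map (Ideal.Quotient.mk J) ?_).map iP.toRingHom : IsUnit (fC h''))
        rw [IsScalarTower.algebraMap_apply C (Localization.Away h'') T₁']
        exact (IsLocalization.Away.algebraMap_isUnit h'').map _)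
    have hφψ : φ₃.comp ψ'' = iP.toRingHom.comp (Ideal.Quotient.mk J) := by
      have e : ∀ x : C, φ₃ (ψ'' (algebraMap C T₁' x)) = fC x := fun x => by
        rw [eψ'']; exact (RingHom.congr_fun hφ₃ _).trans (hφEC x)
      refine away_hom_ext (IC := IC) (g := h'') KW _ _ (le_of_eq ?_) (RingHom.ext e)
      rw [show (φ₃.comp ψ'').comp (algebraMap C T₁') = fC.toRingHom from RingHom.ext e, ← hKW]
      exact (Ideal.map_map _ _).trans (congrArg (fun φ => Ideal.map φ I) fC.comp_algebraMap)
    have hφκ : φ₃.comp κ = algebraMap T₂ W := by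
      have e : ∀ b : B, φ₃ (κ (algebraMap B T₂ b)) = fB b := fun b => by
        rw [eκ]; exact (RingHom.congr_fun hφ₃ _).trans (hφEB b)
      refine away_hom_ext (IC := IB) (g := g) KW _ _ (le_of_eq ?_) (RingHom.ext e)
      rw [show (φ₃.comp κ).comp (algebraMap B T₂) = fB.toRingHom from RingHom.ext e, ← hKW]
      exact (Ideal.map_map _ _).trans (congrArg (fun φ => Ideal.map φ I) fB.comp_algebraMap)
    have hKker : ∀ z ∈ K, φ₃ z = 0 := by
      intro z hz
      have : K ≤ RingHom.ker φ₃ := by
        refine Ideal.map_le_iff_le_comap.2 fun x hx => ?_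
        show φ₃ (ψ'' x) = 0
        rw [show φ₃ (ψ'' x) = iP (Ideal.Quotient.mk J x) from RingHom.congr_fun hφψ x,
          Ideal.Quotient.eq_zero_iff_mem.2 hx, map_zero]
      exact this hz
    let Υ : T₃ ⧸ K →+* W := Ideal.Quotient.lift K φ₃ hKker
    -- the canonical map from the pushout
    let _ : Algebra T₁ T₃ := (ψ''.comp ν).toAlgebra
    let gK : T₂ →ₐ[T₁] T₃ ⧸ K :=
      { mkK.comp κ with commutes' := fun x => congrArg mkK (RingHom.congr_fun hsq x) }
    let fK : P →ₐ[T₁] T₃ ⧸ K :=
      { Ideal.quotientMap K ψ'' Ideal.le_comap_map with commutes' := fun _ => rfl }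
    let Θ : W →ₐ[T₁] T₃ ⧸ K := Algebra.TensorProduct.lift gK fK fun _ _ => Commute.all _ _
    have hΘP : ∀ p, Θ (iP p) = fK p := fun p => by
      show Θ (1 ⊗ₜ p) = fK p
      rw [Algebra.TensorProduct.lift_tmul, map_one, one_mul]
    have hΘT : ∀ t, Θ (algebraMap T₂ W t) = gK t := fun t => by
      show Θ (t ⊗ₜ 1) = gK t
      rw [Algebra.TensorProduct.lift_tmul, map_one, mul_one]
    have hΥΘ : ∀ w, Υ (Θ w) = w := by
      intro w
      induction w using TensorProduct.induction_on with
      | zero => simp
      | tmul t p =>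
        obtain ⟨p, rfl⟩ := Ideal.Quotient.mk_surjective p
        rw [Algebra.TensorProduct.lift_tmul, map_mul]
        show φ₃ (κ t) * φ₃ (ψ'' p) = _
        rw [show φ₃ (κ t) = algebraMap T₂ W t from RingHom.congr_fun hφκ t,
          show φ₃ (ψ'' p) = iP (Ideal.Quotient.mk J p) from RingHom.congr_fun hφψ p]
        show (t ⊗ₜ[T₁] (1 : P)) * ((1 : T₂) ⊗ₜ[T₁] Ideal.Quotient.mk J p) = _
        rw [Algebra.TensorProduct.tmul_mul_tmul, mul_one, one_mul]
      | add a b ha hb => rw [map_add, map_add, ha, hb]
    have hΘφ : Θ.toRingHom.comp φ₃ = mkK := by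
      have : IsAdicComplete (J₃.map mkK) (T₃ ⧸ K) := isAdicComplete_quotient _
      have eC : ∀ x : C, Θ (φE (algebraMap C E x)) = mkK (algebraMap E T₃ (algebraMap C E x)) :=
        fun x => by
          rw [hφEC, ← eψ'']
          exact (hΘP _).trans rfl
      have eB : ∀ b : B, Θ (φE (φB b)) = mkK (algebraMap E T₃ (φB b)) := fun b => by
        rw [hφEB, ← eκ]
        exact hΘT _
      have hm : IE.map (mkK.comp (algebraMap E T₃)) = J₃.map mkK := by
        rw [← Ideal.map_map]; exact congrArg (Ideal.map mkK) (away_ideal_map g₃)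
      have eE : Θ.toRingHom.comp φE = mkK.comp (algebraMap E T₃) :=
        hext (J₃.map mkK) _ _ hm.le eC eB
      refine away_hom_ext (IC := IE) (g := g₃) (J₃.map mkK) _ _ (le_of_eq ?_) ?_
      · rw [RingHom.comp_assoc, hφ₃, eE, hm]
      · rw [RingHom.comp_assoc, hφ₃, eE]
    have hΘΥ : ∀ y, Θ (Υ y) = y := fun y => by
      obtain ⟨z, rfl⟩ := Ideal.Quotient.mk_surjective y
      exact RingHom.congr_fun hΘφ z
    have hΘbij : Function.Bijective Θ.toRingHom :=
      Function.bijective_iff_has_inverse.2 ⟨Υ, hΥΘ, hΘΥ⟩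
    -- localise
    have key : ∀ (X : Ideal S) (_ : X = K.map (algebraMap T₃ S))
        (hle : J ≤ X.comap (algebraMap T₁' S)),
        (Ideal.quotientMap X (algebraMap T₁' S) hle).Flat := by
      intro X hX hle
      subst hX
      let M := S ⧸ K.map (algebraMap T₃ S)
      let χ : T₃ ⧸ K →+* M :=
        Ideal.quotientMap (K.map (algebraMap T₃ S)) (algebraMap T₃ S) Ideal.le_comap_map
      have hχ : χ.Flat :=
        have : Module.Flat T₃ S := IsLocalization.flat _ q₃.primeCompl
        flat_quotientMap K
      have e : Ideal.quotientMap (K.map (algebraMap T₃ S)) (algebraMap T₁' S) hle =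
          χ.comp (Θ.toRingHom.comp
            (Algebra.TensorProduct.includeRight (R := T₁) (A := T₂) (B := P)).toRingHom) := by
        refine RingHom.ext fun y => ?_
        obtain ⟨x, rfl⟩ := Ideal.Quotient.mk_surjective y
        show Ideal.Quotient.mk (K.map (algebraMap T₃ S)) (algebraMap T₁' S x) =
          χ (Θ (iP (Ideal.Quotient.mk J x)))
        rw [hΘP]
        rfl
      rw [e]
      refine flat_of_pushout_iso q₂ h1 Θ hΘbij χ hχ fun s => ?_
      show IsUnit (χ (Θ (algebraMap T₂ W s)))
      rw [hΘT]
      show IsUnit (Ideal.Quotient.mk _ (algebraMap T₃ S (κ s)))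
      exact IsUnit.map _ (IsLocalization.map_units S (⟨κ s, s.2⟩ : q₃.primeCompl))
    refine key _ ?_ _
    exact (Ideal.map_map _ _).symm
  have h4 : ((algebraMap T₃ S).comp ψ'').Flat := hRS
  -- back to `h`
  refine flat_descend_atPrime ψh μ hμflat q₃ qh.asIdeal ?_ ?_
  · rw [hq₃def, RingHom.comap_ker, hπμ, Ideal.mk_ker]
  obtain ⟨χ₀, hχ₀, hχflat⟩ := exists_away_hom (IC := IC) (g₀ := h) (g := h'') (dvd_mul_right h _)
  have hAh := away_map_comp hψh
  let T₀ := AdicCompletion (IC.map (algebraMap C (Localization.Away h))) (Localization.Away h)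
  have key : μ.comp ψh = ψ''.comp χ₀ := by
    have e : ∀ a : C, μ (ψh (algebraMap C T₀ a)) = ψ'' (χ₀ (algebraMap C T₀ a)) := fun a => by
      rw [show ψh (algebraMap C T₀ a) = algebraMap E T' (algebraMap C E a) from
          RingHom.congr_fun hAh a,
        show μ (algebraMap E T' (algebraMap C E a)) = algebraMap E T₃ (algebraMap C E a) from
          RingHom.congr_fun hμ _,
        show χ₀ (algebraMap C T₀ a) = algebraMap C T₁' a from RingHom.congr_fun hχ₀ a, eψ'']
    refine away_hom_ext (IC := IC) (g := h) J₃ _ _ (le_of_eq ?_) (RingHom.ext e)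
    rw [RingHom.comp_assoc, hAh, ← RingHom.comp_assoc, hμ, ← Ideal.map_map]
    exact away_ideal_map g₃
  rw [key, ← RingHom.comp_assoc]
  exact hχflat.comp h4

end Groth.Agent.Adic.Rig
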