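import Groth.Agent.Adic.Rig.Pushout

/-!
Rig-flatness of completed base change, for a pushout given by its universal property.
-/

namespace Groth.Agent.Adic.Rig

universe u

section

variable {A : Type u} [CommRing A] {C : Type u} [CommRing C] [Algebra A C] [IsNoetherianRing C]
  (IC : Ideal C) {Q : Type u} [CommRing Q] [Algebra A Q] [Algebra C Q] [IsScalarTower A C Q]

omit [IsNoetherianRing C] in
theorem map_compl_eq : IC.map (algebraMap C (AdicCompletion (IC.map (algebraMap C Q)) Q)) =
    (IC.map (algebraMap C Q)).map (algebraMap Q (AdicCompletion (IC.map (algebraMap C Q)) Q)) := by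
  rw [IsScalarTower.algebraMap_eq C Q (AdicCompletion (IC.map (algebraMap C Q)) Q)]
  exact (Ideal.map_map _ _).symm

theorem isNoetherianRing_compl_quot [IsNoetherianRing A]
    (hftQ : Algebra.FiniteType A (Q ⧸ IC.map (algebraMap C Q))) :
    IsNoetherianRing (AdicCompletion (IC.map (algebraMap C Q)) Q) := by
  have : IsNoetherianRing (Q ⧸ IC.map (algebraMap C Q)) := Algebra.FiniteType.isNoetherianRing A _
  exact RegLoc.AdicNoeth.isNoetherianRing_adicCompletion _ (Ideal.FG.map (IsNoetherian.noetherian _) _)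

omit [Algebra A C] [Algebra A Q] [IsScalarTower A C Q] in
theorem compl_ext {D : Type u} [CommRing D] (K : Ideal D) [IsHausdorff K D]
    (g k : AdicCompletion (IC.map (algebraMap C Q)) Q →+* D)
    (hK : (IC.map (algebraMap C (AdicCompletion (IC.map (algebraMap C Q)) Q))).map k ≤ K)
    (e : g.comp (algebraMap Q _) = k.comp (algebraMap Q _)) : g = k := by
  refine hom_ext (Ideal.FG.map (IsNoetherian.noetherian IC) _) K g k ?_ e
  rw [e]
  refine le_trans (le_of_eq ?_) hK
  exact (Ideal.map_map _ _).symm.trans (congrArg (Ideal.map k) (map_compl_eq IC).symm)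

omit [IsNoetherianRing C] [Algebra A C] [Algebra A Q] [IsScalarTower A C Q] in
theorem exists_compl_lift {W : Type u} [CommRing W] (K : Ideal W) [IsAdicComplete K W]
    (φQ : Q →+* W) (fC : C →+* W) (hC : ∀ x, φQ (algebraMap C Q x) = fC x) (hK : IC.map fC ≤ K) :
    ∃ φE : AdicCompletion (IC.map (algebraMap C Q)) Q →+* W,
      φE.comp (algebraMap Q _) = φQ ∧ ∀ x, φE (algebraMap C _ x) = fC x := by
  obtain ⟨φE, hφE⟩ := exists_lift φQ K (J := IC.map (algebraMap C Q)) (by
    refine le_trans (le_of_eq ?_) hK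
    exact (Ideal.map_map _ _).trans (congrArg (fun g => Ideal.map g IC) (RingHom.ext hC)))
  refine ⟨φE, hφE, fun x => ?_⟩
  rw [IsScalarTower.algebraMap_apply C Q (AdicCompletion (IC.map (algebraMap C Q)) Q)]
  exact (RingHom.congr_fun hφE _).trans (hC x)

end

open TensorProduct in
theorem finiteType_tensor_quot {A : Type u} [CommRing A] {I : Ideal A}
    {B : Type u} [CommRing B] [Algebra A B] {C : Type u} [CommRing C] [Algebra A C]
    (hft : Algebra.FiniteType A (B ⧸ I.map (algebraMap A B)))
    (hftC : Algebra.FiniteType A (C ⧸ I.map (algebraMap A C))) :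
    Algebra.FiniteType A (TensorProduct A C B ⧸
      (I.map (algebraMap A C)).map (algebraMap C (TensorProduct A C B))) := by
  let IC := I.map (algebraMap A C)
  let IB := I.map (algebraMap A B)
  let J₀ : Ideal (TensorProduct A C B) := IC.map (algebraMap C (TensorProduct A C B))
  have hJ₀ : J₀ = I.map (algebraMap A (TensorProduct A C B)) := by
    show (I.map (algebraMap A C)).map (algebraMap C (TensorProduct A C B)) = _
    rw [Ideal.map_map, ← IsScalarTower.algebraMap_eq]
  let fC : (C ⧸ IC) →ₐ[A] (TensorProduct A C B) ⧸ J₀ := Ideal.Quotient.liftₐ IC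
    ((Ideal.Quotient.mkₐ A J₀).comp Algebra.TensorProduct.includeLeft)
    (fun x hx => Ideal.Quotient.eq_zero_iff_mem.2 (Ideal.mem_map_of_mem _ hx))
  have hBle : IB ≤ RingHom.ker ((Ideal.Quotient.mkₐ A J₀).comp
      Algebra.TensorProduct.includeRight : B →ₐ[A] (TensorProduct A C B) ⧸ J₀).toRingHom := by
    refine Ideal.map_le_iff_le_comap.2 fun a ha => ?_
    show Ideal.Quotient.mk J₀ (Algebra.TensorProduct.includeRight (algebraMap A B a)) = 0
    rw [AlgHom.commutes, Ideal.Quotient.eq_zero_iff_mem, hJ₀]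
    exact Ideal.mem_map_of_mem _ ha
  let fB : (B ⧸ IB) →ₐ[A] (TensorProduct A C B) ⧸ J₀ := Ideal.Quotient.liftₐ IB
    ((Ideal.Quotient.mkₐ A J₀).comp Algebra.TensorProduct.includeRight) (fun x hx => hBle hx)
  have : Algebra.FiniteType A (TensorProduct A (C ⧸ IC) (B ⧸ IB)) := by
    have : Algebra.FiniteType A (B ⧸ IB) := hft
    exact Algebra.FiniteType.trans hftC
      (inferInstance : Algebra.FiniteType (C ⧸ IC) (TensorProduct A (C ⧸ IC) (B ⧸ IB)))
  refine Algebra.FiniteType.of_surjective (Algebra.TensorProduct.lift fC fB fun _ _ => Commute.all _ _)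
    fun y => ?_
  obtain ⟨y, rfl⟩ := Ideal.Quotient.mk_surjective y
  induction y using TensorProduct.induction_on with
  | zero => exact ⟨0, map_zero _⟩
  | tmul x b =>
    refine ⟨Ideal.Quotient.mk IC x ⊗ₜ Ideal.Quotient.mk IB b, ?_⟩
    rw [Algebra.TensorProduct.lift_tmul]
    show Ideal.Quotient.mk J₀ (x ⊗ₜ 1) * Ideal.Quotient.mk J₀ (1 ⊗ₜ b) = _
    rw [← map_mul, Algebra.TensorProduct.tmul_mul_tmul, mul_one, one_mul]
  | add y z hy hz =>
    obtain ⟨a, ha⟩ := hy
    obtain ⟨b, hb⟩ := hz
    exact ⟨a + b, by rw [map_add, map_add, ha, hb]⟩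

end Groth.Agent.Adic.Rig
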