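import Groth.Agent.Adic.Rig.Finite
import Groth.Agent.Adic.Rig.Hom
import Groth.Agent.LocFlat.Fibre
import Mathlib.RingTheory.Flat.FaithfullyFlat.Algebra
import Mathlib.RingTheory.Flat.Localization
import Mathlib.RingTheory.RingHom.Finite
import Mathlib.RingTheory.Localization.Integral
import Mathlib.RingTheory.Algebraic.Integral

/-!
Tools for rig-flatness: rig-closed primes of completed principal localisations become finite over
completed localisations of the base; maps between completed localisations; flatness at local rings.
-/

namespace Groth.Agent.Adic.Rig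

open Groth.Agent.Adic.CV

universe u v

section Domain

variable {T : Type u} [CommRing T] {K : Ideal T}

/-- A rig-closed prime gives a rig-closed zero ideal. -/
theorem RigClosed.bot_quotient {q : Ideal T} [q.IsPrime] (h : RigClosed K q) :
    RigClosed (K.map (Ideal.Quotient.mk q)) (⊥ : Ideal (T ⧸ q)) := by
  refine ⟨fun hle => h.1 fun x hx => ?_, fun y hy _ hy' => ?_⟩
  · rw [le_bot_iff, Ideal.map_eq_bot_iff_le_ker, Ideal.mk_ker] at hle
    exact hle hx
  · rw [Ideal.map_le_iff_le_comap] at hy'
    have := h.2 _ (Ideal.comap_isPrime _ y) (fun x hx => by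
      rw [Ideal.mem_comap, Ideal.Quotient.eq_zero_iff_mem.2 hx]; exact zero_mem y) hy'
    rw [← Ideal.map_comap_of_surjective (Ideal.Quotient.mk q) Ideal.Quotient.mk_surjective y,
      this, Ideal.map_quotient_self]

/-- The kernel of a finite map to a rig-closed domain is rig-closed. -/
theorem rigClosed_ker {D : Type u} [CommRing D] [IsDomain D] (χ : T →+* D) (hχ : χ.Finite)
    (J : Ideal T) {K : Ideal D} (hJK : J.map χ = K) (h : RigClosed K (⊥ : Ideal D)) :
    RigClosed J (RingHom.ker χ) := by
  let _ : Algebra T D := χ.toAlgebra
  have : Module.Finite T D := hχ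
  have : Module.Finite T (D ⧸ (⊥ : Ideal D)) :=
    Module.Finite.equiv (AlgEquiv.quotientBot T D).symm.toLinearEquiv
  have : (⊥ : Ideal D).IsPrime := Ideal.isPrime_bot
  have h' : RigClosed (J.map (algebraMap T D)) (⊥ : Ideal D) := by
    rw [RingHom.algebraMap_toAlgebra, hJK]; exact h
  exact h'.comap_of_finite

variable {A : Type u} [CommRing A] [IsNoetherianRing A] {I : Ideal A} [IsAdicComplete I A]

/-- A one-dimensional complete domain, topologically of finite type over `A`, is finite over some
completed localisation of `A`. -/
theorem exists_away_finite {D : Type u} [CommRing D] [IsDomain D] [IsNoetherianRing D]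
    [Algebra A D] [IsAdicComplete (I.map (algebraMap A D)) D]
    (hft : Algebra.FiniteType A (D ⧸ I.map (algebraMap A D)))
    (hrig : RigClosed (I.map (algebraMap A D)) (⊥ : Ideal D)) :
    ∃ c : A, IsUnit (algebraMap A D c) ∧ ∀ f : A, c ∣ f →
      ∀ χ : AdicCompletion (I.map (algebraMap A (Localization.Away f))) (Localization.Away f) →+* D,
        χ.comp (algebraMap A _) = algebraMap A D → χ.Finite := by
  classical
  have : (⊥ : Ideal D).IsPrime := Ideal.isPrime_bot
  set Q := (I.map (algebraMap A D) ⊔ ⊥).radical with hQdef
  have hQ : Q.IsMaximal := hrig.isMaximal_radical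
  have hIQ : I.map (algebraMap A D) ≤ Q := le_sup_left.trans Ideal.le_radical
  let k := D ⧸ Q
  let _ : Field k := Ideal.Quotient.field Q
  have hkft : Algebra.FiniteType A k :=
    hft.of_surjective (Ideal.Quotient.factorₐ A hIQ) (Ideal.Quotient.factor_surjective hIQ)
  let p₀ := RingHom.ker (algebraMap A k)
  have : p₀.IsPrime := RingHom.ker_isPrime _
  let A' := A ⧸ p₀
  let _ : Algebra A' k := (Ideal.Quotient.lift p₀ (algebraMap A k) fun _ h => h).toAlgebra
  have : IsScalarTower A A' k := IsScalarTower.of_algebraMap_eq fun _ => rfl
  have : FaithfulSMul A' k :=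
    (faithfulSMul_iff_algebraMap_injective A' k).2 (RingHom.kerLift_injective (algebraMap A k))
  let F := FractionRing A'
  let _ : Algebra F k := FractionRing.liftAlgebra A' k
  have : IsScalarTower A' F k := FractionRing.isScalarTower_liftAlgebra A' k
  have : Algebra.FiniteType A' k := Algebra.FiniteType.of_restrictScalars_finiteType A A' k
  have : Algebra.FiniteType F k := Algebra.FiniteType.of_restrictScalars_finiteType A' F k
  have : Module.Finite F k := finite_of_finite_type_of_isJacobsonRing F k
  have hmult : ∀ x : k, ∃ c : A, c ∉ p₀ ∧ IsIntegral A (algebraMap A k c * x) := fun x => by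
    have hx : IsAlgebraic A' x :=
      (IsFractionRing.isAlgebraic_iff A' F k).2 (Algebra.IsAlgebraic.isAlgebraic (R := F) x)
    obtain ⟨c, hc0, hc⟩ := hx.exists_integral_multiple
    obtain ⟨c, rfl⟩ := Ideal.Quotient.mk_surjective c
    refine ⟨c, fun h => hc0 (Ideal.Quotient.eq_zero_iff_mem.2 h), ?_⟩
    have : IsIntegral A (Ideal.Quotient.mk p₀ c • x) := isIntegral_trans _ hc
    rwa [Algebra.smul_def] at this
  choose c hc hci using hmult
  obtain ⟨s, hs⟩ := hkft.out
  have hf0 : ∏ x ∈ s, c x ∉ p₀ := fun h => by
    obtain ⟨x, -, hx⟩ := (Ideal.IsPrime.prod_mem_iff).1 h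
    exact hc x hx
  refine ⟨∏ x ∈ s, c x, ?_, fun f hdvd χ hχ => ?_⟩
  · by_contra hnu
    obtain ⟨M, hM, hfM⟩ := exists_max_ideal_of_mem_nonunits hnu
    have := hM.isPrime
    have hlt : (⊥ : Ideal D) < M := lt_of_le_of_ne bot_le fun e =>
      hrig.1 ((le_of_isMaximal (I := I.map (algebraMap A D)) (M := M)).trans e.ge)
    rw [hrig.eq_radical hlt] at hfM
    exact hf0 (Ideal.Quotient.eq_zero_iff_mem.2 hfM)
  set C := AdicCompletion (I.map (algebraMap A (Localization.Away f))) (Localization.Away f)
  let _ : Algebra C D := χ.toAlgebra
  have : IsScalarTower A C D := IsScalarTower.of_algebraMap_eq fun a => (RingHom.congr_fun hχ a).symm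
  let J := I.map (algebraMap A C)
  have hJ : IsAdicComplete J C := isAdicComplete_compl (IsNoetherian.noetherian I)
  have : IsHausdorff I D :=
    (IsHausdorff.map_algebraMap_iff (R := A) (S := D)).1
      (inferInstance : IsHausdorff (I.map (algebraMap A D)) D)
  have : IsHausdorff J D := (IsHausdorff.map_algebraMap_iff (R := A) (S := C)).2 inferInstance
  have hJD : J.map (algebraMap C D) = I.map (algebraMap A D) := by
    rw [Ideal.map_map, ← IsScalarTower.algebraMap_eq]
  let φ' : D →ₐ[C] k := Ideal.Quotient.mkₐ C Q
  have hint : ∀ x ∈ (s : Set k), IsIntegral C x := fun x hx => by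
    have hu : IsUnit (algebraMap A C (c x)) := by
      rw [IsScalarTower.algebraMap_apply A (Localization.Away f) C]
      exact (isUnit_of_dvd_unit (map_dvd _ ((Finset.dvd_prod_of_mem c hx).trans hdvd))
        (IsLocalization.Away.algebraMap_isUnit f)).map _
    obtain ⟨u, hu⟩ := hu.exists_left_inv
    have h1 : IsIntegral C (algebraMap A k (c x) * x) := (hci x).tower_top
    have h2 := (isIntegral_algebraMap (x := u) (A := k)).mul h1
    rwa [IsScalarTower.algebraMap_apply A C k, ← mul_assoc, ← map_mul, hu, map_one, one_mul] at h2
  have : Algebra.FiniteType C k := Algebra.FiniteType.of_restrictScalars_finiteType A C k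
  have : Algebra.IsIntegral C k := ⟨fun x => by
    have hle : Algebra.adjoin A (s : Set k) ≤ (integralClosure C k).restrictScalars A :=
      Algebra.adjoin_le hint
    exact hle (hs ▸ Algebra.mem_top)⟩
  have : Module.Finite C k := Algebra.IsIntegral.finite
  have : Module.Finite C (D ⧸ RingHom.ker φ') := Module.Finite.equiv
    (Ideal.quotientKerAlgEquivOfSurjective (f := φ')
      Ideal.Quotient.mk_surjective).symm.toLinearEquiv
  have hftD : Algebra.FiniteType C (D ⧸ J.map (algebraMap C D)) := by
    have : Algebra.FiniteType A (D ⧸ J.map (algebraMap C D)) := by rw [hJD]; exact hft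
    exact Algebra.FiniteType.of_restrictScalars_finiteType A C _
  exact finite_of_radical (I := J) hftD (N := RingHom.ker φ') (by
    intro y hy
    have hy' : y ∈ Q := Ideal.Quotient.eq_zero_iff_mem.1 hy
    rwa [hQdef, sup_bot_eq, ← hJD] at hy')

end Domain

section Away

variable {C : Type u} [CommRing C] [IsNoetherianRing C] {IC : Ideal C}

theorem away_ideal_map (g : C) :
    IC.map (algebraMap C (AdicCompletion (IC.map (algebraMap C (Localization.Away g))) (Localization.Away g))) =
      (IC.map (algebraMap C (Localization.Away g))).map (algebraMap (Localization.Away g)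
        (AdicCompletion (IC.map (algebraMap C (Localization.Away g))) (Localization.Away g))) := by
  rw [IsScalarTower.algebraMap_eq C (Localization.Away g)
    (AdicCompletion (IC.map (algebraMap C (Localization.Away g))) (Localization.Away g)),
    ← Ideal.map_map]

theorem isNoetherianRing_away (g : C) : IsNoetherianRing
    (AdicCompletion (IC.map (algebraMap C (Localization.Away g))) (Localization.Away g)) :=
  RegLoc.AdicNoeth.isNoetherianRing_adicCompletion _ (IsNoetherian.noetherian _)

theorem isAdicComplete_away (g : C) : IsAdicComplete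
    ((IC.map (algebraMap C (Localization.Away g))).map (algebraMap (Localization.Away g)
      (AdicCompletion (IC.map (algebraMap C (Localization.Away g))) (Localization.Away g))))
    (AdicCompletion (IC.map (algebraMap C (Localization.Away g))) (Localization.Away g)) :=
  isAdicComplete_map (IsNoetherian.noetherian _)

/-- The kernel of a finite map from a completed localisation to a rig-closed domain is rig-closed. -/
theorem rigClosed_ker_away {D : Type u} [CommRing D] [IsDomain D] {g : C}
    (π : AdicCompletion (IC.map (algebraMap C (Localization.Away g))) (Localization.Away g) →+* D)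
    (hπ : π.Finite) {K : Ideal D} (hK : IC.map (π.comp (algebraMap C _)) = K)
    (h : RigClosed K (⊥ : Ideal D)) :
    RigClosed ((IC.map (algebraMap C (Localization.Away g))).map (algebraMap (Localization.Away g)
      (AdicCompletion (IC.map (algebraMap C (Localization.Away g))) (Localization.Away g))))
      (RingHom.ker π) := by
  refine rigClosed_ker π hπ _ ?_ h
  rw [← away_ideal_map g, Ideal.map_map, hK]

theorem away_hom_ext {D : Type u} [CommRing D] {g : C} (K : Ideal D) [IsHausdorff K D]
    (μ ν : AdicCompletion (IC.map (algebraMap C (Localization.Away g))) (Localization.Away g) →+* D)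
    (hK : IC.map (μ.comp (algebraMap C _)) ≤ K)
    (h : μ.comp (algebraMap C _) = ν.comp (algebraMap C _)) : μ = ν := by
  refine hom_ext (IsNoetherian.noetherian _) K μ ν ?_ ?_
  · refine le_trans (le_of_eq ?_) hK
    rw [Ideal.map_map, IsScalarTower.algebraMap_eq C (Localization.Away g)
      (AdicCompletion (IC.map (algebraMap C (Localization.Away g))) (Localization.Away g)),
      RingHom.comp_assoc]
  · refine IsLocalization.ringHom_ext (Submonoid.powers g) ?_
    rw [RingHom.comp_assoc, RingHom.comp_assoc, ← IsScalarTower.algebraMap_eq]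
    exact h

theorem exists_away_lift {D : Type u} [CommRing D] (φ : C →+* D) (K : Ideal D) [IsAdicComplete K D]
    (hK : IC.map φ ≤ K) {g : C} (hg : IsUnit (φ g)) :
    ∃ π : AdicCompletion (IC.map (algebraMap C (Localization.Away g))) (Localization.Away g) →+* D,
      π.comp (algebraMap C _) = φ := by
  obtain ⟨π, hπ⟩ := exists_lift (J := IC.map (algebraMap C (Localization.Away g)))
    (IsLocalization.Away.lift g hg : Localization.Away g →+* D) K (by
      rw [Ideal.map_map, IsLocalization.Away.lift_comp]; exact hK)
  refine ⟨π, ?_⟩
  rw [IsScalarTower.algebraMap_eq C (Localization.Away g)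
    (AdicCompletion (IC.map (algebraMap C (Localization.Away g))) (Localization.Away g)),
    ← RingHom.comp_assoc, hπ, IsLocalization.Away.lift_comp]

/-- Completed localisation at a multiple is flat over the completed localisation. -/
theorem exists_away_hom {g₀ g : C} (h : g₀ ∣ g) :
    ∃ μ : AdicCompletion (IC.map (algebraMap C (Localization.Away g₀))) (Localization.Away g₀) →+*
        AdicCompletion (IC.map (algebraMap C (Localization.Away g))) (Localization.Away g),
      μ.comp (algebraMap C _) = algebraMap C _ ∧ μ.Flat := by
  have hu : IsUnit (algebraMap C (Localization.Away g) g₀) :=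
    isUnit_of_dvd_unit (map_dvd _ h) (IsLocalization.Away.algebraMap_isUnit g)
  let φ : Localization.Away g₀ →+* Localization.Away g := IsLocalization.Away.lift g₀ hu
  have hφ : φ.Flat := by
    let _ : Algebra (Localization.Away g₀) (Localization.Away g) := φ.toAlgebra
    have : IsScalarTower C (Localization.Away g₀) (Localization.Away g) :=
      IsScalarTower.of_algebraMap_eq fun x => (IsLocalization.Away.lift_eq g₀ hu x).symm
    have : Module.Flat C (Localization.Away g) := IsLocalization.flat _ (Submonoid.powers g)
    exact (Module.flat_iff_of_isLocalization (Localization.Away g₀) (Submonoid.powers g₀) _).2 this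
  have hmap : (IC.map (algebraMap C (Localization.Away g₀))).map φ =
      IC.map (algebraMap C (Localization.Away g)) := by
    rw [Ideal.map_map, IsLocalization.Away.lift_comp]
  have := isAdicComplete_away (IC := IC) g
  obtain ⟨μ, hμ⟩ := exists_lift (J := IC.map (algebraMap C (Localization.Away g₀)))
    ((algebraMap (Localization.Away g) (AdicCompletion (IC.map (algebraMap C (Localization.Away g)))
      (Localization.Away g))).comp φ) _ (le_of_eq (by rw [← Ideal.map_map, hmap]))
  refine ⟨μ, ?_, flat_hom φ hφ hmap.symm μ hμ⟩
  rw [IsScalarTower.algebraMap_eq C (Localization.Away g₀)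
    (AdicCompletion (IC.map (algebraMap C (Localization.Away g₀))) (Localization.Away g₀)),
    ← RingHom.comp_assoc, hμ, RingHom.comp_assoc, IsLocalization.Away.lift_comp,
    ← IsScalarTower.algebraMap_eq]

theorem exists_away_hom' {IC' : Ideal C} (hIC : IC' = IC) {g₀ g : C} (h : g₀ ∣ g) :
    ∃ μ : AdicCompletion (IC.map (algebraMap C (Localization.Away g₀))) (Localization.Away g₀) →+*
        AdicCompletion (IC'.map (algebraMap C (Localization.Away g))) (Localization.Away g),
      μ.comp (algebraMap C _) = algebraMap C _ ∧ μ.Flat := by
  subst hIC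
  exact exists_away_hom h

/-- A map of rings induces maps of completed localisations. -/
theorem exists_away_hom_map {C' : Type u} [CommRing C'] [IsNoetherianRing C'] (φ : C →+* C')
    {IC' : Ideal C'} (hIC : IC' = IC.map φ) {g₀ : C} {g : C'} (h : φ g₀ ∣ g) :
    ∃ μ : AdicCompletion (IC.map (algebraMap C (Localization.Away g₀))) (Localization.Away g₀) →+*
        AdicCompletion (IC'.map (algebraMap C' (Localization.Away g))) (Localization.Away g),
      μ.comp (algebraMap C _) = (algebraMap C' _).comp φ := by
  have := isAdicComplete_away (IC := IC') g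
  refine exists_away_lift _ ((IC'.map (algebraMap C' (Localization.Away g))).map
    (algebraMap (Localization.Away g) (AdicCompletion (IC'.map (algebraMap C' (Localization.Away g)))
      (Localization.Away g)))) (le_of_eq ?_) ?_
  · rw [← away_ideal_map g, ← Ideal.map_map]
    exact (congrArg (Ideal.map _) hIC).symm
  · refine isUnit_of_dvd_unit (map_dvd (algebraMap C' _) h) ?_
    rw [IsScalarTower.algebraMap_apply C' (Localization.Away g)]
    exact (IsLocalization.Away.algebraMap_isUnit g).map _

/-- A flat map induces flat maps of completed localisations. -/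
theorem exists_away_hom_flat {C' : Type u} [CommRing C'] [IsNoetherianRing C'] (φ : C →+* C')
    (hφ : φ.Flat) {IC' : Ideal C'} (hIC : IC' = IC.map φ) {g₀ : C} {g : C'} (h : φ g₀ ∣ g) :
    ∃ μ : AdicCompletion (IC.map (algebraMap C (Localization.Away g₀))) (Localization.Away g₀) →+*
        AdicCompletion (IC'.map (algebraMap C' (Localization.Away g))) (Localization.Away g),
      μ.comp (algebraMap C _) = (algebraMap C' _).comp φ ∧ μ.Flat := by
  have hu : IsUnit (((algebraMap C' (Localization.Away g)).comp φ) g₀) :=
    isUnit_of_dvd_unit (map_dvd (algebraMap C' (Localization.Away g)) h)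
      (IsLocalization.Away.algebraMap_isUnit g)
  let χ : Localization.Away g₀ →+* Localization.Away g := IsLocalization.Away.lift g₀ hu
  have hχ : χ.Flat := by
    let _ : Algebra C C' := φ.toAlgebra
    let _ : Algebra (Localization.Away g₀) (Localization.Away g) := χ.toAlgebra
    have : IsScalarTower C (Localization.Away g₀) (Localization.Away g) :=
      IsScalarTower.of_algebraMap_eq fun x => by
        show algebraMap C (Localization.Away g) x = χ (algebraMap C _ x)
        rw [IsLocalization.Away.lift_eq]
        exact IsScalarTower.algebraMap_apply C C' (Localization.Away g) x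
    have : Module.Flat C C' := hφ
    have : Module.Flat C' (Localization.Away g) := IsLocalization.flat _ (Submonoid.powers g)
    have : Module.Flat C (Localization.Away g) := Module.Flat.trans C C' _
    exact (Module.flat_iff_of_isLocalization (Localization.Away g₀) (Submonoid.powers g₀) _).2 this
  have hmap : (IC.map (algebraMap C (Localization.Away g₀))).map χ =
      IC'.map (algebraMap C' (Localization.Away g)) := by
    rw [Ideal.map_map, IsLocalization.Away.lift_comp, ← Ideal.map_map, hIC]
  have := isAdicComplete_away (IC := IC') g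
  obtain ⟨μ, hμ⟩ := exists_lift (J := IC.map (algebraMap C (Localization.Away g₀)))
    ((algebraMap (Localization.Away g) (AdicCompletion (IC'.map (algebraMap C' (Localization.Away g)))
      (Localization.Away g))).comp χ) _ (le_of_eq (by rw [← Ideal.map_map, hmap]))
  refine ⟨μ, ?_, flat_hom χ hχ hmap.symm μ hμ⟩
  rw [IsScalarTower.algebraMap_eq C (Localization.Away g₀)
    (AdicCompletion (IC.map (algebraMap C (Localization.Away g₀))) (Localization.Away g₀)),
    ← RingHom.comp_assoc, hμ, RingHom.comp_assoc, IsLocalization.Away.lift_comp,
    ← RingHom.comp_assoc, ← IsScalarTower.algebraMap_eq]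

/-- A prime containing the ideal of definition is determined by its trace on the ring. -/
theorem away_prime_le {g : C}
    (Q Q' : Ideal (AdicCompletion (IC.map (algebraMap C (Localization.Away g))) (Localization.Away g)))
    [Q.IsPrime] [Q'.IsPrime]
    (hQ : IC.map (algebraMap C _) ≤ Q) (hQ' : IC.map (algebraMap C _) ≤ Q')
    (h : Q.comap (algebraMap C _) ≤ Q'.comap (algebraMap C _)) : Q ≤ Q' := by
  intro z hz
  let T := AdicCompletion (IC.map (algebraMap C (Localization.Away g))) (Localization.Away g)
  obtain ⟨b, hb⟩ := exists_sub_mem_pow_map (IsNoetherian.noetherian _) z 1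
  rw [pow_one, ← away_ideal_map] at hb
  obtain ⟨n, a, hna⟩ := IsLocalization.Away.surj g b
  have e : algebraMap C T a = algebraMap (Localization.Away g) T b * algebraMap C T g ^ n := by
    rw [IsScalarTower.algebraMap_apply C (Localization.Away g) T a, ← hna, map_mul, map_pow,
      ← IsScalarTower.algebraMap_apply C (Localization.Away g) T]
  have hbQ : algebraMap (Localization.Away g) T b ∈ Q := by
    have := sub_mem hz (hQ hb)
    rwa [sub_sub_cancel] at this
  have haQ' : algebraMap C T a ∈ Q' := h (by
    rw [Ideal.mem_comap, e]; exact Ideal.mul_mem_right _ _ hbQ)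
  rw [e] at haQ'
  have hu : IsUnit (algebraMap C T g) := by
    rw [IsScalarTower.algebraMap_apply C (Localization.Away g) T]
    exact (IsLocalization.Away.algebraMap_isUnit g).map _
  have hbQ' := (Ideal.mul_unit_mem_iff_mem Q' (hu.pow n)).1 haQ'
  have := add_mem (hQ' hb) hbQ'
  rwa [sub_add_cancel] at this

theorem exists_away_map {A : Type u} [CommRing A] {I : Ideal A} (φ : A →+* C)
    (hIC : IC = I.map φ) (f : A) :
    ∃ ψ : AdicCompletion (I.map (algebraMap A (Localization.Away f))) (Localization.Away f) →+*
        AdicCompletion (IC.map (algebraMap C (Localization.Away (φ f)))) (Localization.Away (φ f)),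
      ψ.comp (algebraMap (Localization.Away f) _) =
        (algebraMap (Localization.Away (φ f)) _).comp (Localization.awayMap φ f) := by
  have := isAdicComplete_away (IC := IC) (φ f)
  refine exists_lift (J := I.map (algebraMap A (Localization.Away f))) _
    ((IC.map (algebraMap C (Localization.Away (φ f)))).map (algebraMap (Localization.Away (φ f))
      (AdicCompletion (IC.map (algebraMap C (Localization.Away (φ f)))) (Localization.Away (φ f)))))
    (le_of_eq ?_)
  rw [← Ideal.map_map, Ideal.map_map (f := algebraMap A (Localization.Away f))]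
  rw [show (Localization.awayMap φ f).comp (algebraMap A (Localization.Away f)) =
    (algebraMap C (Localization.Away (φ f))).comp φ from IsLocalization.map_comp _,
    ← Ideal.map_map, hIC]

theorem away_map_comp {A : Type u} [CommRing A] {I : Ideal A} {φ : A →+* C} {f : A}
    {ψ : AdicCompletion (I.map (algebraMap A (Localization.Away f))) (Localization.Away f) →+*
      AdicCompletion (IC.map (algebraMap C (Localization.Away (φ f)))) (Localization.Away (φ f))}
    (hψ : ψ.comp (algebraMap (Localization.Away f) _) =
        (algebraMap (Localization.Away (φ f)) _).comp (Localization.awayMap φ f)) :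
    ψ.comp (algebraMap A _) = (algebraMap C _).comp φ := by
  rw [IsScalarTower.algebraMap_eq A (Localization.Away f)
    (AdicCompletion (I.map (algebraMap A (Localization.Away f))) (Localization.Away f)),
    ← RingHom.comp_assoc, hψ, RingHom.comp_assoc]
  rw [show (Localization.awayMap φ f).comp (algebraMap A (Localization.Away f)) =
    (algebraMap C (Localization.Away (φ f))).comp φ from IsLocalization.map_comp _,
    ← RingHom.comp_assoc, ← IsScalarTower.algebraMap_eq]

theorem finiteType_quot_trans {A B : Type u} [CommRing A] [CommRing B] [Algebra A B] [Algebra A C]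
    [Algebra B C] [IsScalarTower A B C] {IB : Ideal B} (hle : IB.map (algebraMap B C) ≤ IC)
    (hAB : Algebra.FiniteType A (B ⧸ IB)) (hBC : Algebra.FiniteType B (C ⧸ IC)) :
    Algebra.FiniteType A (C ⧸ IC) := by
  let _ : Algebra (B ⧸ IB) (C ⧸ IC) :=
    (Ideal.quotientMap IC (algebraMap B C) (Ideal.map_le_iff_le_comap.1 hle)).toAlgebra
  have : IsScalarTower B (B ⧸ IB) (C ⧸ IC) := IsScalarTower.of_algebraMap_eq fun _ => rfl
  have : IsScalarTower A (B ⧸ IB) (C ⧸ IC) := IsScalarTower.of_algebraMap_eq fun a => by
    show Ideal.Quotient.mk IC (algebraMap A C a) = Ideal.Quotient.mk IC (algebraMap B C (algebraMap A B a))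
    rw [← IsScalarTower.algebraMap_apply A B C]
  have : Algebra.FiniteType (B ⧸ IB) (C ⧸ IC) :=
    Algebra.FiniteType.of_restrictScalars_finiteType B (B ⧸ IB) (C ⧸ IC)
  exact Algebra.FiniteType.trans hAB this

/-- Quotients of completed localisations are of finite type modulo the ideal of definition. -/
theorem finiteType_quot_away {A : Type u} [CommRing A] [Algebra A C]
    (hft : Algebra.FiniteType A (C ⧸ IC)) {g : C} {D : Type u} [CommRing D] [Algebra A D]
    (π : AdicCompletion (IC.map (algebraMap C (Localization.Away g))) (Localization.Away g) →+* D)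
    (hπ : Function.Surjective π)
    (hA : ∀ a : A, π (algebraMap C _ (algebraMap A C a)) = algebraMap A D a)
    (K : Ideal D) (hK : IC.map (π.comp (algebraMap C _)) ≤ K) : Algebra.FiniteType A (D ⧸ K) := by
  let e := algebraMap C
    (AdicCompletion (IC.map (algebraMap C (Localization.Away g))) (Localization.Away g))
  let χ : C ⧸ IC →ₐ[A] D ⧸ K :=
    { Ideal.Quotient.lift IC ((Ideal.Quotient.mk K).comp (π.comp e)) (fun x hx =>
        Ideal.Quotient.eq_zero_iff_mem.2 (hK (Ideal.mem_map_of_mem _ hx))) with
      commutes' := fun a => congrArg (Ideal.Quotient.mk K) (hA a) }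
  have hu : IsUnit (e g) := by
    show IsUnit (algebraMap C _ g)
    rw [IsScalarTower.algebraMap_apply C (Localization.Away g)]
    exact (IsLocalization.Away.algebraMap_isUnit g).map _
  obtain ⟨u, hu⟩ := hu
  let ι : D ⧸ K := Ideal.Quotient.mk K (π ↑u⁻¹)
  let _ : Algebra (C ⧸ IC) (D ⧸ K) := χ.toAlgebra
  have : IsScalarTower A (C ⧸ IC) (D ⧸ K) := IsScalarTower.of_algHom χ
  have : Algebra.FiniteType (C ⧸ IC) (D ⧸ K) := by
    refine ⟨⟨{ι}, ?_⟩⟩
    rw [eq_top_iff]
    intro y _
    obtain ⟨y, rfl⟩ := Ideal.Quotient.mk_surjective y
    obtain ⟨z, rfl⟩ := hπ y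
    obtain ⟨b, hb⟩ := exists_sub_mem_pow_map (IsNoetherian.noetherian _) z 1
    obtain ⟨n, a, hna⟩ := IsLocalization.Away.surj g b
    have h1 : Ideal.Quotient.mk K (π z) = Ideal.Quotient.mk K (π (e a)) * ι ^ n := by
      have h2 : z - algebraMap (Localization.Away g) _ b ∈ IC.map e := by
        rw [pow_one, ← away_ideal_map] at hb; exact hb
      have h3 : π (z - algebraMap (Localization.Away g) _ b) ∈ K := by
        have := Ideal.mem_map_of_mem π h2
        rw [Ideal.map_map] at this
        exact hK this
      rw [map_sub, ← Ideal.Quotient.eq] at h3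
      rw [h3, ← map_pow, ← map_mul, ← map_pow, ← map_mul]
      congr 2
      have h4 : e a = algebraMap (Localization.Away g)
          (AdicCompletion (IC.map (algebraMap C (Localization.Away g))) (Localization.Away g)) b *
            e g ^ n := by
        show algebraMap C _ a = _ * (algebraMap C _ g) ^ n
        rw [IsScalarTower.algebraMap_apply C (Localization.Away g) (AdicCompletion
            (IC.map (algebraMap C (Localization.Away g))) (Localization.Away g)) a, ← hna, map_mul,
          map_pow, ← IsScalarTower.algebraMap_apply C (Localization.Away g)]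
      rw [h4, ← hu, mul_assoc, ← mul_pow, Units.mul_inv, one_pow, mul_one]
    rw [h1]
    refine mul_mem ?_ (pow_mem (Algebra.subset_adjoin (by simp)) _)
    rw [show Ideal.Quotient.mk K (π (e a)) = algebraMap (C ⧸ IC) (D ⧸ K) (Ideal.Quotient.mk IC a)
      from rfl]
    exact Subalgebra.algebraMap_mem _ _
  exact Algebra.FiniteType.trans hft this

end Away

section LocalRings

variable {R T T' : Type u} [CommRing R] [CommRing T] [CommRing T']

/-- Flatness at the local rings composes. -/
theorem flat_comp_atPrime (ψ : R →+* T) (ν : T →+* T') (q' : Ideal T') [q'.IsPrime]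
    (q : Ideal T) [q.IsPrime] (hq : q = q'.comap ν)
    (h1 : ((algebraMap T (Localization.AtPrime q)).comp ψ).Flat)
    (h2 : ((algebraMap T' (Localization.AtPrime q')).comp ν).Flat) :
    ((algebraMap T' (Localization.AtPrime q')).comp (ν.comp ψ)).Flat := by
  let κ := Localization.localRingHom q q' ν hq
  have hκ : κ.Flat := by
    let _ : Algebra (Localization.AtPrime q) (Localization.AtPrime q') := κ.toAlgebra
    let _ : Algebra T (Localization.AtPrime q') :=
      ((algebraMap T' (Localization.AtPrime q')).comp ν).toAlgebra
    have : IsScalarTower T (Localization.AtPrime q) (Localization.AtPrime q') :=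
      IsScalarTower.of_algebraMap_eq fun x => (Localization.localRingHom_to_map q q' ν hq x).symm
    exact (Module.flat_iff_of_isLocalization (Localization.AtPrime q) q.primeCompl _).2 h2
  have e : (algebraMap T' (Localization.AtPrime q')).comp (ν.comp ψ) =
      κ.comp ((algebraMap T (Localization.AtPrime q)).comp ψ) :=
    RingHom.ext fun x => (Localization.localRingHom_to_map q q' ν hq (ψ x)).symm
  rw [e]
  exact h1.comp hκ

/-- Flatness at the local rings descends along a flat map. -/
theorem flat_descend_atPrime (ψ : R →+* T) (μ : T →+* T') (hμ : μ.Flat) (q' : Ideal T') [q'.IsPrime]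
    (q : Ideal T) [q.IsPrime] (hq : q = q'.comap μ)
    (h : ((algebraMap T' (Localization.AtPrime q')).comp (μ.comp ψ)).Flat) :
    ((algebraMap T (Localization.AtPrime q)).comp ψ).Flat := by
  let κ := Localization.localRingHom q q' μ hq
  let _ : Algebra (Localization.AtPrime q) (Localization.AtPrime q') := κ.toAlgebra
  let _ : Algebra R (Localization.AtPrime q) := ((algebraMap T _).comp ψ).toAlgebra
  let _ : Algebra R (Localization.AtPrime q') := ((algebraMap T' _).comp (μ.comp ψ)).toAlgebra
  have : IsScalarTower R (Localization.AtPrime q) (Localization.AtPrime q') :=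
    IsScalarTower.of_algebraMap_eq fun x => (Localization.localRingHom_to_map q q' μ hq (ψ x)).symm
  have : IsLocalHom (algebraMap (Localization.AtPrime q) (Localization.AtPrime q')) :=
    Localization.isLocalHom_localRingHom q q' μ hq
  have : Module.Flat (Localization.AtPrime q) (Localization.AtPrime q') := by
    subst hq
    exact RingHom.Flat.localRingHom hμ q' _ rfl
  have : Module.FaithfullyFlat (Localization.AtPrime q) (Localization.AtPrime q') :=
    Module.FaithfullyFlat.of_flat_of_isLocalHom
  have : Module.Flat R (Localization.AtPrime q') := h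
  exact LocFlat.flat_of_faithfullyFlat_tower (Localization.AtPrime q')

end LocalRings

end Groth.Agent.Adic.Rig
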