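import Groth.Agent.Adic.Rig.RigFlat
import Mathlib.RingTheory.Unramified.LocalRing
import Mathlib.RingTheory.Etale.Basic

/-!
At a prime over a rig-closed prime, the reduction being unramified forces `p B_q = q B_q`.
-/

namespace Groth.Agent.Adic.Rig

open TensorProduct

universe u

variable {A : Type u} [CommRing A] [IsNoetherianRing A] {I : Ideal A} [IsAdicComplete I A]
  {B : Type u} [CommRing B] [Algebra A B] [IsNoetherianRing B]
  [IsAdicComplete (I.map (algebraMap A B)) B]

theorem map_comap_eq_maximalIdeal (hft : Algebra.FiniteType A (B ⧸ I.map (algebraMap A B)))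
    (hU : Algebra.FormallyUnramified A (B ⧸ I.map (algebraMap A B))) (q : Ideal B) [q.IsPrime]
    (hp' : RigClosed I (q.comap (algebraMap A B))) :
    ((q.comap (algebraMap A B)).map (algebraMap A B)).map
        (algebraMap B (Localization.AtPrime q)) =
      IsLocalRing.maximalIdeal (Localization.AtPrime q) := by
  set p := q.comap (algebraMap A B) with hpdef
  set P := (I ⊔ p).radical with hPdef
  have hP : P.IsMaximal := hp'.isMaximal_radical
  have hIP : I.map (algebraMap A B) ≤ P.map (algebraMap A B) :=
    Ideal.map_mono (le_sup_left.trans Ideal.le_radical)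
  let J := I.map (algebraMap A B)
  -- finiteness of `B / pB`
  let k₀ := A ⧸ P
  let _ : Field k₀ := Ideal.Quotient.field P
  let S₀ := B ⧸ P.map (algebraMap A B)
  let _ : Algebra k₀ S₀ :=
    (Ideal.quotientMap (P.map (algebraMap A B)) (algebraMap A B) Ideal.le_comap_map).toAlgebra
  have : IsScalarTower A k₀ S₀ := IsScalarTower.of_algebraMap_eq fun _ => rfl
  have : Algebra.FormallyUnramified A S₀ := Algebra.FormallyUnramified.of_surjective
    (Ideal.Quotient.factorₐ A hIP) (Ideal.Quotient.factor_surjective hIP)
  have : Algebra.FormallyUnramified k₀ S₀ := Algebra.FormallyUnramified.of_restrictScalars A _ _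
  have : Algebra.FiniteType A S₀ :=
    hft.of_surjective (Ideal.Quotient.factorₐ A hIP) (Ideal.Quotient.factor_surjective hIP)
  have : Algebra.FiniteType k₀ S₀ := Algebra.FiniteType.of_restrictScalars_finiteType A k₀ S₀
  have : Module.Finite k₀ S₀ := Algebra.FormallyUnramified.finite_of_free _ _
  have : Module.Finite A S₀ := Module.Finite.trans k₀ S₀
  let pB := p.map (algebraMap A B)
  let B' := B ⧸ pB
  have hfin : Module.Finite A B' := finite_quotient hft pB (P.map (algebraMap A B)) (by
    rw [Ideal.map_le_iff_le_comap]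
    intro a ha
    obtain ⟨m, hm⟩ := ha
    refine ⟨m, ?_⟩
    rw [← map_pow, ← Ideal.map_sup]
    exact Ideal.mem_map_of_mem _ hm)
  -- it is unramified
  let J' := J.map (Ideal.Quotient.mk pB)
  let B'' := B' ⧸ J'
  have : Algebra.FormallyUnramified A B'' := Algebra.FormallyUnramified.of_surjective
    (Ideal.Quotient.liftₐ J ((Ideal.Quotient.mkₐ A J').comp (Ideal.Quotient.mkₐ A pB)) fun x hx =>
      Ideal.Quotient.eq_zero_iff_mem.2 (Ideal.mem_map_of_mem _ hx))
    (Ideal.Quotient.lift_surjective_of_surjective _ _
      (Ideal.Quotient.mk_surjective.comp Ideal.Quotient.mk_surjective))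
  have hss : Subsingleton (B'' ⊗[B'] Ω[B'⁄A]) := by
    refine subsingleton_of_forall_eq 0 fun x ↦ ?_
    obtain ⟨x, rfl⟩ := (KaehlerDifferential.exact_kerCotangentToTensor_mapBaseChange A B'
      B'' Ideal.Quotient.mk_surjective x).mp (Subsingleton.elim _ _)
    obtain ⟨⟨x, hx⟩, rfl⟩ := Ideal.toCotangent_surjective _ x
    simp only [KaehlerDifferential.kerCotangentToTensor_toCotangent]
    replace hx : x ∈ I.map (algebraMap A B') := by
      rw [Ideal.Quotient.algebraMap_eq, Ideal.mk_ker] at hx
      rw [IsScalarTower.algebraMap_eq A B B', ← Ideal.map_map]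
      exact hx
    induction hx using Submodule.span_induction with
    | zero => simp
    | mem x h => obtain ⟨x, hx, rfl⟩ := h; simp
    | add x y hx hy _ _ => simp [*, TensorProduct.tmul_add]
    | smul a x hx _ =>
      have : algebraMap B' B'' x = 0 := by
        rw [Ideal.Quotient.algebraMap_eq, Ideal.Quotient.eq_zero_iff_mem]
        show x ∈ J.map (Ideal.Quotient.mk pB)
        rw [← Ideal.Quotient.algebraMap_eq, Ideal.map_map, ← IsScalarTower.algebraMap_eq]
        exact hx
      simp [*, TensorProduct.tmul_add, TensorProduct.smul_tmul', ← Algebra.algebraMap_eq_smul_one]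
  have hU' : Algebra.FormallyUnramified A B' := by
    have := isAdicComplete_quotient (I := J) pB
    have : Algebra.FiniteType A B' := inferInstance
    have h1 : (J' • ⊤ : Submodule B' Ω[B'⁄A]) = ⊤ := Submodule.Quotient.subsingleton_iff.1
      (TensorProduct.quotTensorEquivQuotSMul Ω[B'⁄A] J').symm.subsingleton
    have h2 := Submodule.eq_bot_of_le_smul_of_le_jacobson_bot J' ⊤ Module.Finite.fg_top h1.ge
      (IsAdicComplete.le_jacobson_bot J')
    exact ⟨subsingleton_of_forall_eq 0 fun x =>
      (Submodule.mem_bot B').1 (h2 ▸ Submodule.mem_top (x := x))⟩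
  -- conclusion
  have hpq : pB ≤ q := Ideal.map_comap_le
  set q' := q.map (Ideal.Quotient.mk pB) with hq'def
  have : q'.IsPrime :=
    Ideal.map_isPrime_of_surjective Ideal.Quotient.mk_surjective (by rw [Ideal.mk_ker]; exact hpq)
  have hc : q'.comap (Ideal.Quotient.mk pB) = q := by
    rw [Ideal.comap_map_quotientMk, sup_eq_right.2 hpq]
  have : q'.LiesOver p := ⟨by
    show p = q'.comap (algebraMap A B')
    rw [IsScalarTower.algebraMap_eq A B B', ← Ideal.comap_comap, Ideal.Quotient.algebraMap_eq, hc]⟩
  let _ := Localization.AtPrime.algebraOfLiesOver p q'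
  have : Algebra.IsUnramifiedAt A q' := Algebra.FormallyUnramified.comp A B' _
  have hmax := ((Algebra.isUnramifiedAt_iff_map_eq A p q').1 inferInstance).2
  have hp0 : p.map (algebraMap A B') = ⊥ := by
    rw [IsScalarTower.algebraMap_eq A B B', ← Ideal.map_map, Ideal.Quotient.algebraMap_eq,
      Ideal.map_quotient_self]
  rw [IsScalarTower.algebraMap_eq A B' (Localization.AtPrime q'), ← Ideal.map_map, hp0,
    Ideal.map_bot] at hmax
  refine le_antisymm ?_ ?_
  · exact (Ideal.map_mono hpq).trans (Localization.AtPrime.map_eq_maximalIdeal).le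
  · rw [← Localization.AtPrime.map_eq_maximalIdeal, Ideal.map_le_iff_le_comap]
    intro x hx
    have h1 : algebraMap B' (Localization.AtPrime q') (Ideal.Quotient.mk pB x) ∈
        IsLocalRing.maximalIdeal (Localization.AtPrime q') := by
      rw [← Localization.AtPrime.map_eq_maximalIdeal]
      exact Ideal.mem_map_of_mem _ (Ideal.mem_map_of_mem _ hx)
    rw [← hmax, Ideal.mem_bot, IsLocalization.map_eq_zero_iff q'.primeCompl] at h1
    obtain ⟨⟨s, hs⟩, h1⟩ := h1
    obtain ⟨s, rfl⟩ := Ideal.Quotient.mk_surjective s
    have hs' : s ∉ q := fun h => hs (Ideal.mem_map_of_mem _ h)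
    have h3 : s * x ∈ pB := Ideal.Quotient.eq_zero_iff_mem.1 (by rw [map_mul]; exact h1)
    have h4 := Ideal.mem_map_of_mem (algebraMap B (Localization.AtPrime q)) h3
    rw [map_mul] at h4
    rw [Ideal.mem_comap]
    exact (Ideal.unit_mul_mem_iff_mem _
      (IsLocalization.map_units (Localization.AtPrime q)
        (⟨s, hs'⟩ : q.primeCompl))).1 h4


section Away

variable {C : Type u} [CommRing C] [IsNoetherianRing C] {IC : Ideal C}

/-- The reduction of a completed localisation is unramified if that of the ring is. -/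
theorem formallyUnramified_quot_away {A : Type u} [CommRing A] [Algebra A C]
    (hU : Algebra.FormallyUnramified A (C ⧸ IC)) (g : C)
    (K : Ideal (AdicCompletion (IC.map (algebraMap C (Localization.Away g))) (Localization.Away g)))
    (hK : IC.map (algebraMap C _) = K) :
    Algebra.FormallyUnramified A
      (AdicCompletion (IC.map (algebraMap C (Localization.Away g))) (Localization.Away g) ⧸ K) := by
  let T := AdicCompletion (IC.map (algebraMap C (Localization.Away g))) (Localization.Away g)
  let _ : Algebra (C ⧸ IC) (T ⧸ K) :=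
    (Ideal.quotientMap K (algebraMap C T) (Ideal.map_le_iff_le_comap.1 hK.le)).toAlgebra
  have : IsScalarTower C (C ⧸ IC) (T ⧸ K) := IsScalarTower.of_algebraMap_eq fun _ => rfl
  have : IsScalarTower A (C ⧸ IC) (T ⧸ K) := IsScalarTower.of_algebraMap_eq fun a => by
    show algebraMap A (T ⧸ K) a = Ideal.Quotient.mk K (algebraMap C T (algebraMap A C a))
    rw [← IsScalarTower.algebraMap_apply A C T]
    rfl
  have : Algebra.FormallyUnramified C (Localization.Away g) :=
    Algebra.FormallyUnramified.of_isLocalization (Submonoid.powers g)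
  have : Algebra.FormallyUnramified C (T ⧸ K) := Algebra.FormallyUnramified.of_surjective
    (IsScalarTower.toAlgHom C (Localization.Away g) (T ⧸ K)) fun y => by
      obtain ⟨z, rfl⟩ := Ideal.Quotient.mk_surjective y
      obtain ⟨b, hb⟩ := exists_sub_mem_pow_map (IsNoetherian.noetherian _) z 1
      rw [pow_one, ← away_ideal_map, hK] at hb
      exact ⟨b, (Ideal.Quotient.eq.2 hb).symm⟩
  have : Algebra.FormallyUnramified (C ⧸ IC) (T ⧸ K) :=
    Algebra.FormallyUnramified.of_restrictScalars C _ _
  exact Algebra.FormallyUnramified.comp A (C ⧸ IC) (T ⧸ K)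

end Away

end Groth.Agent.Adic.Rig
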